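import Groth.Agent.ThetaH3.Basic
import Groth.Agent.H23.SeesawGlobal

/-!
# Local lifts of points of `K(L)` and commutation tested locally
-/

universe u

open CategoryTheory CategoryTheory.Limits MonoidalCategory CartesianMonoidalCategory MonObj AlgebraicGeometry
open scoped Groth.Agent.H23.PicMul

noncomputable section

namespace Groth.Agent.ThetaH3

open ThetaGrp (thetaObj thetaPts transl IsOverPt bcLift IsBaseChange)
open Groth.Agent.H23

/-- An invertible class is trivial near every point. -/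
theorem exists_opens_pullCl_eq_one {X : Scheme.{u}} {c : PicF.Cl X} (hc : PicF.IsInvertibleCl c) (x : X) :
    ∃ U : X.Opens, x ∈ U ∧ PicF.pullCl U.ι c = 1 := by
  obtain ⟨M, rfl, hM⟩ := hc
  obtain ⟨U, hx, ⟨φ⟩⟩ := hM x
  exact ⟨U, hx, (PicGrp.cl_eq_cl_iff _ _).2
    ⟨((Scheme.Modules.restrictFunctorIsoPullback U.ι).app M).symm ≪≫ φ⟩⟩

/-- Two invertible classes agreeing along a section and locally on the base agree, if there are no new functions. -/
theorem cl_eq_of_local {X Y : Scheme.{u}} (f : X ⟶ Y) (h0 : ∀ V : Y.Opens, Function.Bijective (f.app V))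
    (σ : Y ⟶ X) (hσ : σ ≫ f = 𝟙 Y) {a b : PicF.Cl X} (ha : PicF.IsInvertibleCl a) (hb : PicF.IsInvertibleCl b)
    (hs : PicF.pullCl σ a = PicF.pullCl σ b)
    (hloc : ∀ y, ∃ U : Y.Opens, y ∈ U ∧ PicF.pullCl (f ⁻¹ᵁ U).ι a = PicF.pullCl (f ⁻¹ᵁ U).ι b) : a = b := by
  obtain ⟨⟨c, hc⟩, hcb⟩ := PicMul.exists_inv (⟨b, hb⟩ : PicLoc.PicSet X)
  change c * b = 1 at hcb
  obtain ⟨D, hD, hDi⟩ := PicMul.isInvertibleCl_mul ha hc
  suffices h : a * c = 1 by
    rw [← _root_.one_mul b, ← h, _root_.mul_assoc, hcb, _root_.mul_one]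
  rw [← hD]
  refine PicMul.cl_eq_iff.2 (SeesawGlobal.triv_of_section (f := f) h0 σ hσ (PicMul.cl_eq_iff.1 ?_) fun y => ?_)
  · show PicF.pullCl σ (PicF.cl D) = 1
    rw [hD, PicMul.pullCl_mul, hs, ← PicMul.pullCl_mul, mul_comm, hcb, PicMul.pullCl_one]
  · obtain ⟨U, hy, hU⟩ := hloc y
    have h1 : PicF.pullCl (f ⁻¹ᵁ U).ι (PicF.cl D) = 1 := by
      rw [hD, PicMul.pullCl_mul, hU, ← PicMul.pullCl_mul, mul_comm, hcb, PicMul.pullCl_one]
    obtain ⟨s, hfr⟩ := SeesawGlobal.exists_frame_of_triv (f ⁻¹ᵁ U).ι (PicMul.cl_eq_iff.1 h1)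
    exact ⟨U, hy, _, hfr.res (Scheme.Opens.opensRange_ι _).ge⟩

variable {S : Scheme.{u}} {A : Over S} [GrpObj A] {L : A.left.Modules}

/-- The open subscheme of the test object. -/
abbrev restr (T : Over S) (U : T.left.Opens) : Over S := Over.mk (U.ι ≫ T.hom)

/-- Its inclusion. -/
abbrev restrι (T : Over S) (U : T.left.Opens) : restr T U ⟶ T := Over.homMk U.ι rfl

theorem eq_comp {T T' : Over S} (g : T' ⟶ T) {x : T ⟶ A} {c : PicF.Cl T.left}
    (h : KLBasic.Eq L T x c) : KLBasic.Eq L T' (g ≫ x) (PicF.pullCl g.left c) := by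
  have h' := congrArg (PicF.pullCl (A ◁ g).left) h
  rw [PicMul.pullCl_mul, PicClLib.pullCl_comp, PicClLib.pullCl_comp, PicClLib.pullCl_comp, ← Over.comp_left,
    ← Over.comp_left, ← Over.comp_left, ← Category.assoc, ← transl_whisker, Category.assoc, whiskerLeft_fst,
    whiskerLeft_snd] at h'
  rw [KLBasic.Eq, h']
  simp only [Over.comp_left, ← PicClLib.pullCl_comp]

/-- Points of `K(L)` lift locally. -/
theorem exists_local_lift [Subsingleton S] [Nonempty S] (hL : PicF.IsInvertible L) {T : Over S} {x : T ⟶ A}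
    (hx : ThetaGrp.IsMumfordTriv A L x) (t : ↥T.left) :
    ∃ U : T.left.Opens, t ∈ U ∧ ∃ β : thetaPts A L (restr T U), IsOverPt β (restrι T U ≫ x) := by
  obtain ⟨U, ht, hU⟩ := exists_opens_pullCl_eq_one
    (PicClLib.isInvertibleCl_pullCl x.left ⟨L, rfl, hL⟩) t
  refine ⟨U, ht, (exists_point_iff _).2 ?_⟩
  have h := eq_comp (restrι T U) ((KLBasic.iff_eq_pull hL x).1 hx)
  rwa [show PicF.pullCl (restrι T U).left (PicF.pullCl x.left (PicF.cl L)) = 1 from hU] at h

/-- Points with local lifts lie in `K(L)`. -/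
theorem mumford_of_local_lift [Subsingleton S] [Nonempty S] (hL : PicF.IsInvertible L) {T : Over S}
    (h0 : ∀ V : T.left.Opens, Function.Bijective ((snd A T).left.app V)) {x : T ⟶ A}
    (hx : ∀ t : ↥T.left, ∃ U : T.left.Opens, t ∈ U ∧ ∃ β : thetaPts A L (restr T U), IsOverPt β (restrι T U ≫ x)) :
    ThetaGrp.IsMumfordTriv A L x := by
  rw [KLBasic.iff_eq_pull hL x]
  have hxL : PicF.IsInvertibleCl (PicF.pullCl x.left (PicF.cl L)) :=
    PicClLib.isInvertibleCl_pullCl x.left ⟨L, rfl, hL⟩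
  refine cl_eq_of_local (snd A T).left h0 (lift (1 : T ⟶ A) (𝟙 T)).left ?_
    (PicClLib.isInvertibleCl_pullCl _ ⟨L, rfl, hL⟩)
    (PicMul.isInvertibleCl_mul (PicClLib.isInvertibleCl_pullCl _ ⟨L, rfl, hL⟩)
      (PicClLib.isInvertibleCl_pullCl _ hxL)) ?_ fun t => ?_
  · rw [← Over.comp_left, lift_snd]; rfl
  · rw [PicMul.pullCl_mul, PicClLib.pullCl_comp, PicClLib.pullCl_comp, PicClLib.pullCl_comp, ← Over.comp_left,
      ← Over.comp_left, ← Over.comp_left, lift_fst, lift_snd, KLBasic.pull_one hL, _root_.one_mul, Over.id_left,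
      PicClLib.pullCl_id, ← Category.assoc, transl, comp_lift, lift_fst, MonObj.comp_mul, lift_fst,
      lift_snd_assoc, Category.id_comp, _root_.one_mul]
  · obtain ⟨U, ht, β, hβ⟩ := hx t
    refine ⟨U, ht, ?_⟩
    have h1 := (exists_point_iff _).1 ⟨β, hβ⟩
    have hc := KLBasic.eq_pull_of_eq hL h1
    rw [Over.comp_left, ← PicClLib.pullCl_comp] at hc
    let W : (A ⊗ T).left.Opens := (snd A T).left ⁻¹ᵁ U
    let k : restr (A ⊗ T) W ⟶ A ⊗ restr T U :=
      lift (restrι (A ⊗ T) W ≫ fst A T) (Over.homMk ((snd A T).left ∣_ U) (by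
        show _ ≫ U.ι ≫ T.hom = W.ι ≫ (A ⊗ T).hom
        rw [morphismRestrict_ι_assoc, Over.w (snd A T)]))
    have hk : k ≫ A ◁ restrι T U = restrι (A ⊗ T) W := by
      apply CartesianMonoidalCategory.hom_ext
      · rw [Category.assoc, whiskerLeft_fst, lift_fst]
      · rw [Category.assoc, whiskerLeft_snd, lift_snd_assoc]
        exact Over.OverMorphism.ext (morphismRestrict_ι _ _)
    show PicF.pullCl (restrι (A ⊗ T) W).left _ = PicF.pullCl (restrι (A ⊗ T) W).left _
    rw [← hk, Over.comp_left, ← PicClLib.pullCl_comp, ← PicClLib.pullCl_comp]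
    congr 1
    rw [PicMul.pullCl_mul, PicClLib.pullCl_comp, PicClLib.pullCl_comp, PicClLib.pullCl_comp, ← Over.comp_left,
      ← Over.comp_left, ← Over.comp_left, ← Category.assoc, ← transl_whisker, Category.assoc, whiskerLeft_fst,
      whiskerLeft_snd]
    rw [KLBasic.Eq, PicMul.pullCl_one, _root_.mul_one] at h1
    rw [h1]
    simp only [Over.comp_left, ← PicClLib.pullCl_comp, ← hc, PicMul.pullCl_one, _root_.mul_one]

/-- The functions on every test object are the functions on its product with `A`. -/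
theorem h0_app_of_geometricallyIntegral {k : Type u} [Field k] (A T : Over (Spec (CommRingCat.of k)))
    [IsProper A.hom] [GeometricallyIntegral A.hom] (V : T.left.Opens) :
    Function.Bijective ((snd A T).left.app V) :=
  H23.Rigid.bijective_app_snd A.hom T.hom V

/-- A unit is `1` if it is `1` near every point. -/
theorem unit_eq_one_of_local {T : Over S} (c : Γ(T.left, ⊤)ˣ)
    (h : ∀ t : ↥T.left, ∃ U : T.left.Opens, t ∈ U ∧
      Units.map ((restrι T U).left.appTop).hom.toMonoidHom c = 1) : c = 1 := by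
  choose U ht hU using h
  refine Units.ext (T.left.sheaf.eq_of_locally_eq' U ⊤ (fun _ => homOfLE le_top)
    (fun p _ => TopologicalSpace.Opens.mem_iSup.2 ⟨p, ht p⟩) _ _ fun t => ?_)
  have h1 : (U t).ι.appTop (c : Γ(T.left, ⊤)) = 1 := congrArg Units.val (hU t)
  have h2 := congrArg (T.left.presheaf.map (eqToHom (U t).ι_image_top.symm).op) h1
  rw [Units.val_one]
  refine Eq.trans ?_ ((h2.trans (RingHom.map_one _)).trans (RingHom.map_one _).symm)
  show _ = T.left.presheaf.map _ ((U t).ι.app ⊤ (c : Γ(T.left, ⊤)))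
  rw [Scheme.Opens.ι_app]
  exact (ConcreteCategory.congr_hom
    ((T.left.presheaf.map_comp _ _).symm.trans (congrArg _ (Subsingleton.elim _ _))) _).symm

/-- Commutation of two points may be tested locally. -/
theorem commute_of_local [IsCommMonObj A] (hL : PicF.IsInvertible L) (h0 : ∀ T : Over S, H0 A T) {T : Over S}
    (α β : thetaPts A L T)
    (h : ∀ t : ↥T.left, ∃ U : T.left.Opens, t ∈ U ∧
      bc (restrι T U) α * bc (restrι T U) β = bc (restrι T U) β * bc (restrι T U) α) :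
    α * β = β * α := by
  obtain ⟨c, hc⟩ := exists_commutator hL (h0 T) α β
  suffices c = 1 by rw [hc, this, unitPt_one, _root_.one_mul]
  refine unit_eq_one_of_local c fun t => ?_
  obtain ⟨U, ht, hU⟩ := h t
  refine ⟨U, ht, unitPt_injective (A := A) (L := L) hL (h0 _) ?_⟩
  have h1 := congrArg (bc (restrι T U)) hc
  rw [bc_mul, bc_mul, bc_mul, bc_unitPt, hU, right_eq_mul] at h1
  rw [h1, unitPt_one]

end Groth.Agent.ThetaH3
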