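import Groth.Prelude.Def_ThetaGrp
import Groth.Prelude.Def_Formal
import Mathlib.CategoryTheory.FiberedCategory.Grothendieck

/-!
# Morphisms in the category of pairs of a scheme and a module
-/

universe u

open CategoryTheory CategoryTheory.Limits AlgebraicGeometry Opposite Pseudofunctor Bicategory

noncomputable section

namespace Groth.Agent.ThetaH3

section Generic

universe w v₂ u₂

variable {𝒮 : Type w} [Category.{u} 𝒮] {F : LocallyDiscrete 𝒮ᵒᵖ ⥤ᵖ Cat.{v₂, u₂}}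
variable {P Q R : CoGrothendieck F}

instance isIso_fiber_id (P : CoGrothendieck F) : IsIso (𝟙 P : P ⟶ P).fiber :=
  inferInstanceAs (IsIso ((Cat.Hom.toNatIso (F.mapId ⟨op P.base⟩)).inv.app P.fiber))

theorem mk_eq_mk {f : P.base ⟶ Q.base} {φ φ' : P.fiber ⟶ (F.map f.op.toLoc).toFunctor.obj Q.fiber} :
    (⟨f, φ⟩ : P ⟶ Q) = ⟨f, φ'⟩ ↔ φ = φ' :=
  ⟨fun h => by simpa using CoGrothendieck.Hom.congr h, fun h => by rw [h]⟩

/-- A morphism whose module part is invertible is cartesian. -/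
theorem existsUnique_lift (f : P ⟶ Q) [IsIso f.fiber] (h : R ⟶ Q) (g : R.base ⟶ P.base)
    (hg : g ≫ f.base = h.base) : ∃! χ : R ⟶ P, χ.base = g ∧ χ ≫ f = h := by
  let rest : (F.map g.op.toLoc).toFunctor.obj P.fiber ⟶ (F.map (g ≫ f.base).op.toLoc).toFunctor.obj Q.fiber :=
    (F.map g.op.toLoc).toFunctor.map f.fiber ≫
      (Cat.Hom.toNatIso (F.mapComp f.base.op.toLoc g.op.toLoc)).inv.app Q.fiber
  haveI : IsIso rest := @IsIso.comp_isIso _ _ _ _ _ _ _ inferInstance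
    (inferInstanceAs (IsIso ((Cat.Hom.toNatIso (F.mapComp f.base.op.toLoc g.op.toLoc)).inv.app Q.fiber)))
  have e : (F.map h.base.op.toLoc).toFunctor.obj Q.fiber =
      (F.map (g ≫ f.base).op.toLoc).toFunctor.obj Q.fiber := by rw [hg]
  refine ⟨⟨g, h.fiber ≫ eqToHom e ≫ inv rest⟩, ⟨rfl, CoGrothendieck.Hom.ext _ _ hg ?_⟩, ?_⟩
  · show (h.fiber ≫ eqToHom e ≫ inv rest) ≫ rest = _
    rw [Category.assoc, Category.assoc, IsIso.inv_hom_id]
    erw [Category.comp_id]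
  · rintro ⟨g', φ⟩ ⟨rfl, hχ⟩
    have h' := CoGrothendieck.Hom.congr hχ
    change φ ≫ rest = h.fiber ≫ eqToHom _ at h'
    congr 1
    rw [← Category.assoc, IsIso.eq_comp_inv]
    exact h'

theorem hom_ext_lift (f : P ⟶ Q) [IsIso f.fiber] {χ χ' : R ⟶ P} (hb : χ.base = χ'.base)
    (h : χ ≫ f = χ' ≫ f) : χ = χ' :=
  (existsUnique_lift f (χ' ≫ f) χ'.base rfl).unique ⟨hb, h⟩ ⟨rfl, rfl⟩

/-- A morphism given by a morphism in a fibre. -/
def vert {X : 𝒮} {M N : F.obj ⟨op X⟩} (φ : M ⟶ N) : (⟨X, M⟩ : CoGrothendieck F) ⟶ ⟨X, N⟩ :=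
  (CoGrothendieck.ι F X).map φ

@[simp]
theorem vert_base {X : 𝒮} {M N : F.obj ⟨op X⟩} (φ : M ⟶ N) : (vert φ).base = 𝟙 X := rfl

theorem vert_id {X : 𝒮} (M : F.obj ⟨op X⟩) : vert (𝟙 M) = 𝟙 (⟨X, M⟩ : CoGrothendieck F) :=
  (CoGrothendieck.ι F X).map_id M

theorem vert_comp {X : 𝒮} {M N O : F.obj ⟨op X⟩} (φ : M ⟶ N) (ψ : N ⟶ O) :
    vert (φ ≫ ψ) = vert φ ≫ vert ψ :=
  (CoGrothendieck.ι F X).map_comp φ ψ

set_option backward.isDefEq.respectTransparency false in
theorem comp_vert {X : 𝒮} {M N : F.obj ⟨op X⟩} {A : CoGrothendieck F} (f : A ⟶ (⟨X, M⟩ : CoGrothendieck F))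
    (φ : M ⟶ N) :
    f ≫ vert φ = ⟨f.base, f.fiber ≫ (F.map f.base.op.toLoc).toFunctor.map φ⟩ := by
  let m : A ⟶ (⟨X, N⟩ : CoGrothendieck F) := ⟨f.base, f.fiber ≫ (F.map f.base.op.toLoc).toFunctor.map φ⟩
  show f ≫ vert φ = m
  rw [← Category.comp_id m]
  refine CoGrothendieck.Hom.ext _ _ rfl ?_
  simp [vert, m]
  rfl

set_option backward.isDefEq.respectTransparency false in
theorem vert_comp_mor {X : 𝒮} {M N : F.obj ⟨op X⟩} {A : CoGrothendieck F} (φ : M ⟶ N)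
    (f : (⟨X, N⟩ : CoGrothendieck F) ⟶ A) :
    vert φ ≫ f = ⟨f.base, φ ≫ f.fiber⟩ := by
  let m : (⟨X, M⟩ : CoGrothendieck F) ⟶ A := ⟨f.base, φ ≫ f.fiber⟩
  show vert φ ≫ f = m
  rw [← Category.id_comp m]
  refine CoGrothendieck.Hom.ext _ _ rfl ?_
  simp [vert, m, CoGrothendieck.ι, ← NatTrans.naturality_assoc]

theorem vert_injective {X : 𝒮} {M N : F.obj ⟨op X⟩} {φ ψ : M ⟶ N} (h : vert φ = vert ψ) : φ = ψ := by
  have h1 := vert_comp_mor φ (𝟙 (⟨X, N⟩ : CoGrothendieck F))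
  rw [Category.comp_id, h] at h1
  have h2 := vert_comp_mor ψ (𝟙 (⟨X, N⟩ : CoGrothendieck F))
  rw [Category.comp_id] at h2
  have h3 := mk_eq_mk.1 (h1.symm.trans h2)
  haveI := isIso_fiber_id (⟨X, N⟩ : CoGrothendieck F)
  exact (cancel_mono (𝟙 (⟨X, N⟩ : CoGrothendieck F) : _ ⟶ _).fiber).1 h3

theorem exists_vert {X : 𝒮} {M N : F.obj ⟨op X⟩} (f : (⟨X, M⟩ : CoGrothendieck F) ⟶ ⟨X, N⟩) (hf : f.base = 𝟙 X) :
    ∃ φ : M ⟶ N, f = vert φ := by
  obtain ⟨b, χ⟩ := f
  change b = 𝟙 X at hf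
  subst hf
  haveI := isIso_fiber_id (⟨X, N⟩ : CoGrothendieck F)
  let e := (𝟙 (⟨X, N⟩ : CoGrothendieck F) : _ ⟶ _).fiber
  haveI : IsIso e := isIso_fiber_id _
  refine ⟨χ ≫ inv e, ?_⟩
  have h1 := vert_comp_mor (χ ≫ inv e) (𝟙 (⟨X, N⟩ : CoGrothendieck F))
  rw [Category.comp_id] at h1
  rw [h1]
  refine mk_eq_mk.2 ?_
  show χ = (χ ≫ inv e) ≫ e
  rw [Category.assoc, IsIso.inv_hom_id, Category.comp_id]

/-- An isomorphism of base and an isomorphism in the fibre give an isomorphism of pairs. -/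
theorem isIso_of_isIso (f : P ⟶ Q) [IsIso f.base] [IsIso f.fiber] : IsIso f := by
  obtain ⟨g, ⟨hg, hgf⟩, -⟩ := existsUnique_lift f (𝟙 Q) (inv f.base) (by simp)
  exact ⟨g, hom_ext_lift f (by simp [hg]) (by rw [Category.assoc, hgf, Category.comp_id, Category.id_comp]), hgf⟩

theorem isIso_base (f : P ⟶ Q) [IsIso f] : IsIso f.base :=
  inferInstanceAs (IsIso ((CoGrothendieck.forget F).map f))

theorem isIso_fiber (f : P ⟶ Q) [IsIso f] : IsIso f.fiber := by
  haveI := isIso_base f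
  let g : (⟨P.base, (F.map f.base.op.toLoc).toFunctor.obj Q.fiber⟩ : CoGrothendieck F) ⟶ Q := ⟨f.base, 𝟙 _⟩
  haveI : IsIso g.fiber := inferInstanceAs (IsIso (𝟙 _))
  haveI : IsIso g.base := inferInstanceAs (IsIso f.base)
  haveI := isIso_of_isIso g
  have hv : vert f.fiber = f ≫ inv g := by
    rw [IsIso.eq_comp_inv, vert_comp_mor]
    obtain ⟨b, χ⟩ := f
    exact mk_eq_mk.2 (Category.comp_id _)
  obtain ⟨ψ, hψ⟩ := exists_vert (g ≫ inv f) (by
    show f.base ≫ (inv f).base = _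
    exact congrArg CoGrothendieck.Hom.base (IsIso.hom_inv_id f))
  refine ⟨ψ, vert_injective ?_, vert_injective ?_⟩
  · refine (vert_comp _ _).trans ?_
    rw [hv, ← hψ, Category.assoc, IsIso.inv_hom_id_assoc, IsIso.hom_inv_id]
    exact (vert_id _).symm
  · refine (vert_comp _ _).trans ?_
    rw [hv, ← hψ, Category.assoc, IsIso.inv_hom_id_assoc, IsIso.hom_inv_id]
    exact (vert_id _).symm

end Generic

abbrev MP : Type (u + 1) := CoGrothendieck (ThetaGrp.modPF.{u})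

variable {P Q R : MP.{u}}

section Scal

/-- The pullback of multiplication by a function is multiplication by its pullback. -/
theorem pullback_smulModΓ {X Y : Scheme.{u}} (f : X ⟶ Y) (M : Y.Modules) (r : Γ(Y, ⊤)) :
    (Scheme.Modules.pullback f).map (Formal.smulModΓ M r) =
      Formal.smulModΓ ((Scheme.Modules.pullback f).obj M) (f.appTop r) := by
  let adj := Scheme.Modules.pullbackPushforwardAdjunction f
  have push : ∀ N : X.Modules, (Scheme.Modules.pushforward f).map (Formal.smulModΓ N (f.appTop r)) =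
      Formal.smulModΓ ((Scheme.Modules.pushforward f).obj N) r := by
    intro N
    have key : ∀ V : Y.Opens, X.presheaf.map (homOfLE (le_top (a := f ⁻¹ᵁ V))).op (f.appTop r) =
        f.app V (Y.presheaf.map (homOfLE (le_top (a := V))).op r) := fun V =>
      (congr($(f.naturality (homOfLE (le_top (a := V))).op) r)).symm
    apply SheafOfModules.Hom.ext
    ext V m
    exact congrArg (· • (show Γ(N, f ⁻¹ᵁ V.unop) from m)) (key V.unop)
  apply (adj.homEquiv _ _).injective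
  rw [← Category.comp_id ((Scheme.Modules.pullback f).map _), adj.homEquiv_naturality_left,
    adj.homEquiv_unit, adj.homEquiv_unit, push, CategoryTheory.Functor.map_id]
  erw [Category.comp_id]
  apply SheafOfModules.Hom.ext
  ext V m
  exact map_smul ((adj.unit.app M).val.app V).hom _ _

theorem smulModΓ_comp {X : Scheme.{u}} {M N : X.Modules} (φ : M ⟶ N) (r : Γ(X, ⊤)) :
    Formal.smulModΓ M r ≫ φ = φ ≫ Formal.smulModΓ N r := by
  apply SheafOfModules.Hom.ext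
  ext V m
  exact map_smul (φ.val.app V).hom _ _

theorem smulModΓ_one {X : Scheme.{u}} (M : X.Modules) : Formal.smulModΓ M (1 : Γ(X, ⊤)) = 𝟙 M := by
  apply SheafOfModules.Hom.ext
  ext V m
  show X.presheaf.map (homOfLE (le_top (a := V.unop))).op (1 : Γ(X, ⊤)) • m = m
  rw [map_one]
  exact one_smul _ m

theorem smulModΓ_mul {X : Scheme.{u}} (M : X.Modules) (r s : Γ(X, ⊤)) :
    Formal.smulModΓ M (r * s) = Formal.smulModΓ M s ≫ Formal.smulModΓ M r := by
  apply SheafOfModules.Hom.ext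
  ext V m
  show X.presheaf.map (homOfLE (le_top (a := V.unop))).op (r * s) • m =
    X.presheaf.map (homOfLE (le_top (a := V.unop))).op r • (X.presheaf.map (homOfLE (le_top (a := V.unop))).op s • m)
  rw [map_mul]
  exact mul_smul _ _ m

/-- Multiplication by a function as an endomorphism of a pair. -/
def scal (P : MP.{u}) (r : Γ(P.base, ⊤)) : P ⟶ P := vert (Formal.smulModΓ P.fiber r)

@[simp]
theorem scal_base (P : MP.{u}) (r : Γ(P.base, ⊤)) : (scal P r).base = 𝟙 _ := rfl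

theorem scal_one (P : MP.{u}) : scal P 1 = 𝟙 P :=
  (congrArg (fun φ => vert (F := ThetaGrp.modPF.{u}) φ) (smulModΓ_one P.fiber)).trans (vert_id _)

theorem scal_mul (P : MP.{u}) (r s : Γ(P.base, ⊤)) : scal P (r * s) = scal P s ≫ scal P r :=
  (congrArg (fun φ => vert (F := ThetaGrp.modPF.{u}) φ) (smulModΓ_mul P.fiber r s)).trans (vert_comp _ _)

theorem comp_scal (f : P ⟶ Q) (r : Γ(Q.base, ⊤)) : f ≫ scal Q r = scal P (f.base.appTop r) ≫ f :=
  (comp_vert f _).trans (((mk_eq_mk).2 ((congrArg (f.fiber ≫ ·) (pullback_smulModΓ f.base Q.fiber r)).trans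
    (smulModΓ_comp f.fiber (f.base.appTop r)).symm)).trans (vert_comp_mor _ f).symm)

end Scal

end Groth.Agent.ThetaH3
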