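import Groth.Agent.ThetaH3.GlueMor
import Groth.Agent.ThetaH3.Field
import Groth.Agent.FpqcDescLib.Group

/-!
# Points of the theta group form a sheaf for the Zariski topology
-/

universe u

open CategoryTheory CategoryTheory.Limits MonoidalCategory CartesianMonoidalCategory MonObj AlgebraicGeometry
open Pseudofunctor Bicategory TopologicalSpace

noncomputable section

namespace Groth.Agent.ThetaH3

set_option linter.style.haveILetI false
set_option backward.isDefEq.respectTransparency false

open ThetaGrp (thetaObj thetaPts transl IsOverPt bcLift IsBaseChange)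

variable {S : Scheme.{u}} {A : Over S} [GrpObj A] {L : A.left.Modules} {T : Over S}
variable {J : Type*} {V : J → Over S} (j : ∀ i, V i ⟶ T)

theorem isOpenImmersion_bcLift {T' : Over S} (g : T' ⟶ T) [IsOpenImmersion g.left] :
    IsOpenImmersion (bcLift A L g).base :=
  MorphismProperty.of_isPullback (P := @IsOpenImmersion)
    ((FpqcDescLib.isPullback_whiskerLeft g A).map (Over.forget S)).flip ‹IsOpenImmersion g.left›

theorem covers_bcLift [∀ i, IsOpenImmersion (j i).left]
    (hcov : ∀ t : T.left, ∃ i, t ∈ (j i).left.opensRange) (x : (A ⊗ T).left) :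
    ∃ i, x ∈ Set.range (bcLift A L (j i)).base := by
  obtain ⟨i, t, ht⟩ := hcov ((snd A T).left x)
  refine ⟨i, ?_⟩
  obtain ⟨w, hw, -⟩ := Scheme.Pullback.exists_preimage_pullback (f := (snd A T).left) (g := (j i).left) x t ht.symm
  let W : Over S := Over.mk (pullback.snd (snd A T).left (j i).left ≫ (V i).hom)
  let c₁ : W ⟶ A ⊗ T := Over.homMk (pullback.fst (snd A T).left (j i).left) (by
    show _ = pullback.snd (snd A T).left (j i).left ≫ (V i).hom
    rw [← Over.w (j i), ← Category.assoc, ← pullback.condition, Category.assoc, Over.w (snd A T)])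
  let c₂ : W ⟶ V i := Over.homMk (pullback.snd (snd A T).left (j i).left) rfl
  have he : lift (c₁ ≫ fst A T) c₂ ≫ A ◁ j i = c₁ := by
    apply CartesianMonoidalCategory.hom_ext
    · simp
    · simp only [Category.assoc, whiskerLeft_snd, lift_snd_assoc]
      exact Over.OverMorphism.ext pullback.condition.symm
  refine ⟨(lift (c₁ ≫ fst A T) c₂).left w, ?_⟩
  show ((lift (c₁ ≫ fst A T) c₂).left ≫ (A ◁ j i).left) w = x
  rw [← Over.comp_left, he]
  exact hw

variable [∀ i, IsOpenImmersion (j i).left] (hcov : ∀ t : T.left, ∃ i, t ∈ (j i).left.opensRange)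
include hcov

/-- Two points of the theta group agreeing on a cover are equal. -/
theorem eq_of_cover (hL : PicF.IsInvertible L) {α β : thetaPts A L T} {x : T ⟶ A} (hα : IsOverPt α x)
    (hβ : IsOverPt β x) (h : ∀ i, bc (j i) α = bc (j i) β) : α = β := by
  haveI := fun i => isOpenImmersion_bcLift (A := A) (L := L) (j i)
  refine ext_hom (hom_ext_of_cover (fun i => bcLift A L (j i)) (PicClLib.isInvertible_pullback _ hL)
    (PicClLib.isInvertible_pullback _ hL) (fun y => covers_bcLift j hcov y) (hα.trans hβ.symm) fun i => ?_)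
  rw [← isBaseChange_bc (j i) α, ← isBaseChange_bc (j i) β, h i]

/-- Compatible points of the theta group over the restrictions of a point glue. -/
theorem exists_glue (hL : PicF.IsInvertible L) (x : T ⟶ A) (β : ∀ i, thetaPts A L (V i))
    (hβ : ∀ i, IsOverPt (β i) (j i ≫ x))
    (hc : ∀ (i k : J) (T' : Over S) (g : T' ⟶ V i) (g' : T' ⟶ V k), g ≫ j i = g' ≫ j k →
      bc g (β i) = bc g' (β k)) :
    ∃ α : thetaPts A L T, IsOverPt α x ∧ ∀ i, bc (j i) α = β i := by
  haveI := fun i => isOpenImmersion_bcLift (A := A) (L := L) (j i)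
  have hQ : PicF.IsInvertible (fib (thetaObj A L T)) := PicClLib.isInvertible_pullback _ hL
  have hcov' := fun y => covers_bcLift (A := A) (L := L) j hcov y
  have main : ∀ (x : T ⟶ A) (β : ∀ i, thetaPts A L (V i)), (∀ i, IsOverPt (β i) (j i ≫ x)) →
      (∀ (i k : J) (T' : Over S) (g : T' ⟶ V i) (g' : T' ⟶ V k), g ≫ j i = g' ≫ j k →
        bc g (β i) = bc g' (β k)) →
      ∃ ψ : thetaObj A L T ⟶ thetaObj A L T, ψ.base = (transl A x).left ∧
        ∀ i, bcLift A L (j i) ≫ ψ = (β i).1.hom ≫ bcLift A L (j i) := by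
    intro x β hβ hc
    refine exists_hom_of_cover _ hQ hQ hcov' (transl A x).left (fun i => (β i).1.hom ≫ bcLift A L (j i))
      (fun i => ?_) fun i k Z χ χ' _ he => ?_
    · show (β i).1.hom.base ≫ (A ◁ j i).left = (A ◁ j i).left ≫ _
      rw [show (β i).1.hom.base = _ from hβ i, ← Over.comp_left, ← Over.comp_left, transl_whisker]
    let T' : Over S := Over.mk (χ.base ≫ (A ⊗ V i).hom)
    have heb : χ.base ≫ (A ◁ j i).left = χ'.base ≫ (A ◁ j k).left := congrArg CoGrothendieck.Hom.base he
    let c₁ : T' ⟶ A ⊗ V i := Over.homMk χ.base rfl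
    let c₂ : T' ⟶ A ⊗ V k := Over.homMk χ'.base (by
      show χ'.base ≫ (A ⊗ V k).hom = χ.base ≫ (A ⊗ V i).hom
      rw [← Over.w (A ◁ j k), ← Category.assoc, ← heb, Category.assoc, Over.w (A ◁ j i)])
    have hcc : c₁ ≫ A ◁ j i = c₂ ≫ A ◁ j k := Over.OverMorphism.ext heb
    let g := c₁ ≫ snd A (V i)
    let g' := c₂ ≫ snd A (V k)
    have hg : g ≫ j i = g' ≫ j k := by
      have := congrArg (fun h => h ≫ snd A T) hcc
      simpa [g, g'] using this
    have ha : c₁ ≫ fst A (V i) = c₂ ≫ fst A (V k) := by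
      have := congrArg (fun h => h ≫ fst A T) hcc
      simpa using this
    let s : T' ⟶ A ⊗ T' := lift (c₁ ≫ fst A (V i)) (𝟙 T')
    have hs : s ≫ A ◁ g = c₁ := by
      apply CartesianMonoidalCategory.hom_ext <;> simp [s, g]
    have hs' : s ≫ A ◁ g' = c₂ := by
      apply CartesianMonoidalCategory.hom_ext <;> simp [s, g', ha]
    obtain ⟨σ, ⟨hσb, hσ⟩, -⟩ := existsUnique_lift (bcLift A L g) χ s.left (by
      rw [bcLift_base, ← Over.comp_left, hs]; rfl)
    have hσ' : σ ≫ bcLift A L g' = χ' := by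
      refine hom_ext_lift (bcLift A L (j k)) ?_ ?_
      · rw [CoGrothendieck.categoryStruct_comp_base, hσb, bcLift_base, ← Over.comp_left, hs']
        rfl
      · rw [Category.assoc, bcLift_comp g' (j k), ← hg, ← bcLift_comp g (j i), ← Category.assoc, hσ, he]
    show χ ≫ (β i).1.hom ≫ bcLift A L (j i) = χ' ≫ (β k).1.hom ≫ bcLift A L (j k)
    rw [← hσ, ← hσ']
    simp only [Category.assoc]
    rw [← reassoc_of% (isBaseChange_bc g (β i)), ← reassoc_of% (isBaseChange_bc g' (β k)),
      bcLift_comp g (j i), bcLift_comp g' (j k), hg, hc i k T' g g' hg]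
  obtain ⟨ψ, hψb, hψ⟩ := main x β hβ hc
  obtain ⟨ψ', hψ'b, hψ'⟩ := main x⁻¹ (fun i => (β i)⁻¹)
    (fun i => by rw [GrpObj.comp_inv]; exact isOverPt_inv (hβ i))
    fun i k T' g g' hg => by
      rw [show bc g (β i)⁻¹ = (bc g (β i))⁻¹ from map_inv (bcHom (A := A) (L := L) g) (β i),
        show bc g' (β k)⁻¹ = (bc g' (β k))⁻¹ from map_inv (bcHom (A := A) (L := L) g') (β k), hc i k T' g g' hg]
  have hb : ∀ (p q : thetaObj A L T ⟶ thetaObj A L T) (a b : T ⟶ A), p.base = (transl A a).left →
      q.base = (transl A b).left → a * b = 1 → (p ≫ q).base = 𝟙 _ := fun p q a b hp hq hab => by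
    rw [CoGrothendieck.categoryStruct_comp_base, hp, hq, ← Over.comp_left, ← ThetaGrp.transl_mul, hab,
      ThetaGrp.transl_one]
    rfl
  let a : Aut (thetaObj A L T) :=
    { hom := ψ
      inv := ψ'
      hom_inv_id := hom_ext_of_cover _ hQ hQ hcov' (hb ψ ψ' x x⁻¹ hψb hψ'b (mul_inv_cancel x)) fun i => by
        rw [← Category.assoc, hψ, Category.assoc, hψ', ← Category.assoc,
          show (β i).1.hom ≫ ((β i)⁻¹).1.hom = 𝟙 _ from (β i).1.hom_inv_id]
        exact (Category.id_comp _).trans (Category.comp_id _).symm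
      inv_hom_id := hom_ext_of_cover _ hQ hQ hcov' (hb ψ' ψ x⁻¹ x hψ'b hψb (inv_mul_cancel x)) fun i => by
        rw [← Category.assoc, hψ', Category.assoc, hψ, ← Category.assoc,
          show ((β i)⁻¹).1.hom ≫ (β i).1.hom = 𝟙 _ from (β i).1.inv_hom_id]
        exact (Category.id_comp _).trans (Category.comp_id _).symm }
  exact ⟨⟨a, x, hψb⟩, hψb, fun i => bc_eq (hψ i).symm⟩

end Groth.Agent.ThetaH3
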