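import Groth.Agent.ThetaH3.SeesawAll
import Groth.Agent.ThetaH3.Field

/-!
# Existence of `K(L)`
-/

set_option autoImplicit false
set_option linter.style.haveILetI false
set_option backward.isDefEq.respectTransparency false
set_option backward.isDefEq.respectTransparency.types false

universe u

open CategoryTheory CategoryTheory.Limits MonoidalCategory CartesianMonoidalCategory MonObj AlgebraicGeometry
open scoped Groth.Agent.H23.PicMul

namespace Groth.Agent.ThetaH3

open Groth.Agent.H23 Groth.Agent.H23.TrivBasic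
open Groth.Agent.PicfLib.Seesaw (LocTriv)

/-- Triviality over `A ×_S W` computed through the pullback of the second projection. -/
theorem triv_pullback_snd_iff {S : Scheme.{u}} {A W : Over S} (M : (A ⊗ A).left.Modules) (w : W ⟶ A) :
    Triv ((Scheme.Modules.pullback (pullback.fst (snd A A).left w.left)).obj M) ↔
      Triv ((Scheme.Modules.pullback (A ◁ w).left).obj M) := by
  refine ⟨SeesawGlobal.triv_of_factor
    (pullback.lift (A ◁ w).left (snd A W).left (by rw [← Over.comp_left, whiskerLeft_snd, Over.comp_left]))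
    (pullback.lift_fst _ _ _), fun h => ?_⟩
  let P : Over S := Over.mk (pullback.snd (snd A A).left w.left ≫ W.hom)
  let c₁ : P ⟶ A ⊗ A := Over.homMk (pullback.fst (snd A A).left w.left) (by
    show _ = pullback.snd (snd A A).left w.left ≫ W.hom
    rw [← Over.w w, ← Category.assoc, ← pullback.condition, Category.assoc, Over.w (snd A A)])
  let c₂ : P ⟶ W := Over.homMk (pullback.snd (snd A A).left w.left) rfl
  have hc : c₁ ≫ snd A A = c₂ ≫ w := Over.OverMorphism.ext pullback.condition
  have he : lift (c₁ ≫ fst A A) c₂ ≫ A ◁ w = c₁ := by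
    apply CartesianMonoidalCategory.hom_ext
    · simp
    · simpa using hc.symm
  exact SeesawGlobal.triv_of_factor (lift (c₁ ≫ fst A A) c₂).left
    (by rw [← Over.comp_left, he]; rfl) h

/-- `K(L)` exists for an invertible module on a proper geometrically integral group scheme over a field. -/
theorem exists_isKL {k : Type u} [Field k] (A : Over (Spec (CommRingCat.of k))) [GrpObj A] [IsProper A.hom]
    [GeometricallyIntegral A.hom] (L : A.left.Modules) (hL : PicF.IsInvertible L) :
    ∃ (K : Over (Spec (CommRingCat.of k))) (i : K ⟶ A), ThetaGrp.IsKL A L i := by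
  haveI : Subsingleton (Spec (CommRingCat.of k)) := inferInstanceAs (Subsingleton (PrimeSpectrum k))
  haveI : Nonempty (Spec (CommRingCat.of k)) := inferInstanceAs (Nonempty (PrimeSpectrum k))
  let f := (snd A A).left
  haveI : IsProper f := inferInstanceAs (IsProper (pullback.snd A.hom A.hom))
  haveI : Flat f := inferInstanceAs (Flat (pullback.snd A.hom A.hom))
  haveI : GeometricallyIntegral f := inferInstanceAs (GeometricallyIntegral (pullback.snd A.hom A.hom))
  haveI : IsLocallyNoetherian A.left := LocallyOfFiniteType.isLocallyNoetherian A.hom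
  let p : PicF.Cl (A ⊗ A).left := PicF.pullCl (fst A A).left (PicF.cl L)
  let m : PicF.Cl (A ⊗ A).left := PicF.pullCl μ[A].left (PicF.cl L)
  obtain ⟨⟨d, hd⟩, hdp⟩ := PicMul.exists_inv
    (⟨p, PicClLib.isInvertibleCl_pullCl _ ⟨L, rfl, hL⟩⟩ : PicLoc.PicSet (A ⊗ A).left)
  change d * p = 1 at hdp
  obtain ⟨M, hMd, hM⟩ := PicMul.isInvertibleCl_mul
    (PicClLib.isInvertibleCl_pullCl μ[A].left ⟨L, rfl, hL⟩) hd
  have key : ∀ {W : Over (Spec (CommRingCat.of k))} (w : W ⟶ A),
      Triv ((Scheme.Modules.pullback (pullback.fst f w.left)).obj M) ↔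
        ∃ β : ThetaGrp.thetaPts A L W, ThetaGrp.IsOverPt β w := by
    intro W w
    rw [triv_pullback_snd_iff, exists_point_iff, KLBasic.Eq, PicMul.pullCl_one, _root_.mul_one,
      KLBasic.transl_fst_eq, Over.comp_left, ← PicClLib.pullCl_comp]
    refine Iff.trans (PicMul.cl_eq_iff).symm ?_
    show PicF.pullCl (A ◁ w).left (PicF.cl M) = 1 ↔ _
    have hp : PicF.pullCl (fst A W).left (PicF.cl L) = PicF.pullCl (A ◁ w).left p := by
      rw [PicClLib.pullCl_comp, ← Over.comp_left, whiskerLeft_fst]
    rw [hp, hMd, PicMul.pullCl_mul]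
    have hdp' : PicF.pullCl (A ◁ w).left d * PicF.pullCl (A ◁ w).left p = 1 := by
      rw [← PicMul.pullCl_mul, hdp, PicMul.pullCl_one]
    constructor
    · intro h
      calc PicF.pullCl (A ◁ w).left m = PicF.pullCl (A ◁ w).left m *
            (PicF.pullCl (A ◁ w).left d * PicF.pullCl (A ◁ w).left p) := by rw [hdp', _root_.mul_one]
        _ = PicF.pullCl (A ◁ w).left p := by rw [← _root_.mul_assoc, h, _root_.one_mul]
    · intro h
      rw [h, mul_comm, hdp']
  obtain ⟨Z, j, hj, hZ⟩ := SeesawAll.exists_seesaw_all f M hM fun T u => by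
    show Function.Injective (pullback.snd (pullback.snd A.hom A.hom) u).appTop
    rw [← pullbackLeftPullbackSndIso_hom_snd A.hom A.hom u, Scheme.Hom.comp_appTop]
    exact (SeesawGlobal.bijective_appTop_iso (pullbackLeftPullbackSndIso A.hom A.hom u)).1.comp
      (Rigid.bijective_app_snd A.hom (u ≫ A.hom) ⊤).1
  refine ⟨Over.mk (j ≫ A.hom), Over.homMk j rfl, hj, fun T z => ?_⟩
  have hloc : LocTriv f M z.left ↔
      ∀ t : ↥T.left, ∃ U : T.left.Opens, t ∈ U ∧
        ∃ β : ThetaGrp.thetaPts A L (restr T U), ThetaGrp.IsOverPt β (restrι T U ≫ z) :=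
    forall_congr' fun t => exists_congr fun U => and_congr_right fun _ => key (restrι T U ≫ z)
  constructor
  · intro h
    obtain ⟨u', hu'⟩ := (hZ T.left z.left).2 (hloc.2 fun t => exists_local_lift hL h t)
    exact ⟨Over.homMk u' (by show u' ≫ j ≫ A.hom = _; rw [reassoc_of% hu', Over.w z]),
      Over.OverMorphism.ext hu'⟩
  · rintro ⟨y, rfl⟩
    exact mumford_of_local_lift hL (h0_app_of_geometricallyIntegral A T)
      (hloc.1 ((hZ T.left _).1 ⟨y.left, rfl⟩))

end Groth.Agent.ThetaH3
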