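import Groth.Agent.ThetaH3.Isotropic

/-!
# The commutator when `K(L)` is everything
-/

universe u

open CategoryTheory CategoryTheory.Limits MonoidalCategory CartesianMonoidalCategory MonObj AlgebraicGeometry

noncomputable section

namespace Groth.Agent.ThetaH3

open ThetaGrp (thetaObj thetaPts transl IsOverPt bcLift IsBaseChange)
open scoped Groth.Agent.H23.PicMul

variable {S : Scheme.{u}} {A : Over S} [GrpObj A] {L : A.left.Modules}

/-- `c` is the commutator of lifts of `x` and `y`. -/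
def IsComm (L : A.left.Modules) {T : Over S} (x y : T ⟶ A) (c : Γ(T.left, ⊤)ˣ) : Prop :=
  ∃ α β : thetaPts A L T, IsOverPt α x ∧ IsOverPt β y ∧ α * β = unitPt T c * (β * α)

theorem isComm_unique (hL : PicF.IsInvertible L) {T : Over S} (h : H0 A T) {x y : T ⟶ A} {c d : Γ(T.left, ⊤)ˣ}
    (hc : IsComm L x y c) (hd : IsComm L x y d) : c = d := by
  obtain ⟨α, β, hα, hβ, e⟩ := hc
  obtain ⟨α', β', hα', hβ', e'⟩ := hd
  obtain ⟨a, rfl⟩ := exists_unit_of_isOverPt hL h hα hα'
  obtain ⟨b, rfl⟩ := exists_unit_of_isOverPt hL h hβ hβ'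
  have key : ∀ p q : thetaPts A L T, unitPt T a * p * (unitPt T b * q) = unitPt T (a * b) * (p * q) := by
    intro p q
    calc unitPt T a * p * (unitPt T b * q) = unitPt T a * (p * unitPt T b) * q := by simp only [_root_.mul_assoc]
      _ = unitPt T a * (unitPt T b * p) * q := by rw [unitPt_comm T b p]
      _ = unitPt T (a * b) * (p * q) := by simp only [unitPt_mul, _root_.mul_assoc]
  have key' : ∀ p q : thetaPts A L T, unitPt T b * q * (unitPt T a * p) = unitPt T (a * b) * (q * p) := by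
    intro p q
    calc unitPt T b * q * (unitPt T a * p) = unitPt T b * (q * unitPt T a) * p := by simp only [_root_.mul_assoc]
      _ = unitPt T b * (unitPt T a * q) * p := by rw [unitPt_comm T a q]
      _ = unitPt T (a * b) * (q * p) := by rw [mul_comm a b]; simp only [unitPt_mul, _root_.mul_assoc]
  rw [key, key', e] at e'
  have e'' : unitPt T (a * b * c) * (β * α) = unitPt T (d * (a * b)) * (β * α) := by
    rw [unitPt_mul T (a * b) c, unitPt_mul T d (a * b), _root_.mul_assoc, _root_.mul_assoc]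
    exact e'
  rw [mul_left_inj, mul_comm d (a * b)] at e''
  exact mul_left_cancel (unitPt_injective hL h e'')

theorem isComm_bc {T T' : Over S} (g : T' ⟶ T) {x y : T ⟶ A} {c : Γ(T.left, ⊤)ˣ} (h : IsComm L x y c) :
    IsComm L (g ≫ x) (g ≫ y) (Units.map g.left.appTop.hom.toMonoidHom c) := by
  obtain ⟨α, β, hα, hβ, e⟩ := h
  exact ⟨bc g α, bc g β, isOverPt_bc g hα, isOverPt_bc g hβ, by
    rw [← bc_mul, e, bc_mul, bc_mul, bc_unitPt]⟩

theorem isComm_one (T : Over S) : IsComm L (1 : T ⟶ A) 1 1 :=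
  ⟨1, 1, isOverPt_one, isOverPt_one, by rw [unitPt_one, _root_.one_mul, _root_.one_mul]⟩

theorem appTop_res_eq {X : Scheme.{u}} {W U : X.Opens} (h : W ≤ U) (r : Γ(X, U)) :
    (X.homOfLE h).appTop ((Scheme.Opens.topIso U).inv r) =
      (Scheme.Opens.topIso W).inv (X.presheaf.map (homOfLE h).op r) := by
  rw [Scheme.homOfLE_appTop, Scheme.Opens.topIso_inv, Scheme.Opens.topIso_inv]
  exact ConcreteCategory.congr_hom ((X.presheaf.map_comp _ _).symm.trans
    ((congrArg _ (Subsingleton.elim _ _)).trans (X.presheaf.map_comp _ _))) r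

/-- If `K(L)` is everything and all global functions on `A × A` are constants, all points of `G(L)` commute. -/
theorem commute_of_full [IsCommMonObj A] [Subsingleton S] [Nonempty S] (hL : PicF.IsInvertible L)
    (h0 : ∀ T : Over S, H0 A T) (hK : ∀ (T : Over S) (z : T ⟶ A), ThetaGrp.IsMumfordTriv A L z)
    (hconst : Function.Surjective (A ⊗ A).hom.appTop)
    {T : Over S} (β₁ β₂ : thetaPts A L T) : β₁ * β₂ = β₂ * β₁ := by
  let T₀ : Over S := A ⊗ A
  have hl : ∀ t : ↥T₀.left, ∃ U : T₀.left.Opens, t ∈ U ∧ ∃ c : Γ((restr T₀ U).left, ⊤)ˣ,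
      IsComm L (restrι T₀ U ≫ fst A A) (restrι T₀ U ≫ snd A A) c := by
    intro t
    obtain ⟨U, ht, ⟨α, hα⟩, ⟨β, hβ⟩⟩ := exists_local_lift₂ hL (hK T₀ (fst A A)) (hK T₀ (snd A A)) t
    obtain ⟨c, hc⟩ := exists_commutator hL (h0 _) α β
    exact ⟨U, ht, c, α, β, hα, hβ, hc⟩
  choose U hU c hc using hl
  let v : ∀ t, Γ(T₀.left, U t) := fun t => (Scheme.Opens.topIso (U t)).hom ((c t).val : Γ((U t).toScheme, ⊤))
  have hcompat : TopCat.Presheaf.IsCompatible T₀.left.sheaf.1 U v := by
    intro a b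
    show T₀.left.presheaf.map (homOfLE (inf_le_left : U a ⊓ U b ≤ U a)).op (v a) =
      T₀.left.presheaf.map (homOfLE (inf_le_right : U a ⊓ U b ≤ U b)).op (v b)
    have hr : ∀ d (h : U a ⊓ U b ≤ U d), IsComm L (restrι T₀ (U a ⊓ U b) ≫ fst A A)
        (restrι T₀ (U a ⊓ U b) ≫ snd A A)
        (Units.map ((Over.homMk (T₀.left.homOfLE h) (by simp) : restr T₀ (U a ⊓ U b) ⟶ restr T₀ (U d)).left.appTop).hom.toMonoidHom
          (c d)) := fun d h => by
      rw [← restrι_homOfLE h, Category.assoc, Category.assoc]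
      exact isComm_bc _ (hc d)
    have e := congrArg Units.val (isComm_unique hL (h0 _) (hr a inf_le_left) (hr b inf_le_right))
    have e2 : ∀ d (h : U a ⊓ U b ≤ U d), (T₀.left.homOfLE h).appTop ((c d).val : Γ((U d).toScheme, ⊤)) =
        (Scheme.Opens.topIso (U a ⊓ U b)).inv (T₀.left.presheaf.map (homOfLE h).op (v d)) := fun d h => by
      rw [← appTop_res_eq h]
      exact congrArg _ (Iso.hom_inv_id_apply (Scheme.Opens.topIso (U d)) _).symm
    exact (ConcreteCategory.bijective_of_isIso (Scheme.Opens.topIso (U a ⊓ U b)).inv).1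
      (((e2 a inf_le_left).symm.trans e).trans (e2 b inf_le_right))
  obtain ⟨r, hr, -⟩ := T₀.left.sheaf.existsUnique_gluing' U ⊤ (fun _ => homOfLE le_top)
    (fun p _ => TopologicalSpace.Opens.mem_iSup.2 ⟨p, hU p⟩) v hcompat
  obtain ⟨lam, hlam⟩ := hconst r
  have hc' : ∀ t, ((c t).val : Γ((U t).toScheme, ⊤)) = (restr T₀ (U t)).hom.appTop lam := by
    intro t
    refine Eq.symm ?_
    show ((U t).ι ≫ T₀.hom).appTop lam = _
    rw [Scheme.Hom.comp_appTop, CommRingCat.comp_apply, hlam,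
      ← Iso.hom_inv_id_apply (Scheme.Opens.topIso (U t)) ((c t).val : Γ((U t).toScheme, ⊤))]
    change _ = (Scheme.Opens.topIso (U t)).inv (v t)
    rw [← hr t, Scheme.Opens.ι_appTop, Scheme.Opens.topIso_inv]
    exact (ConcreteCategory.congr_hom
      ((congrArg _ (Subsingleton.elim _ _)).trans (T₀.left.presheaf.map_comp _ _)) r)
  have hlam1 : lam = 1 := by
    let o : 𝟙_ (Over S) ⟶ T₀ := 1
    haveI : Subsingleton (𝟙_ (Over S)).left := ‹Subsingleton S›
    haveI : Nonempty (𝟙_ (Over S)).left := ‹Nonempty S›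
    let s : (𝟙_ (Over S)).left := Classical.arbitrary _
    let t := o.left s
    have hr' : Set.range o.left ⊆ Set.range (U t).ι := by
      rintro _ ⟨s', rfl⟩
      rw [Scheme.Opens.range_ι, Subsingleton.elim s' s]
      exact hU t
    let o' : 𝟙_ (Over S) ⟶ restr T₀ (U t) := Over.homMk (IsOpenImmersion.lift (U t).ι o.left hr') (by
      show _ ≫ (U t).ι ≫ T₀.hom = _
      rw [← Category.assoc, IsOpenImmersion.lift_fac, Over.w o])
    have ho : o' ≫ restrι T₀ (U t) = o := Over.OverMorphism.ext (IsOpenImmersion.lift_fac _ _ _)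
    have h1 := isComm_bc o' (hc t)
    rw [← Category.assoc, ← Category.assoc, ho, MonObj.one_comp, MonObj.one_comp] at h1
    have h2 := congrArg Units.val (isComm_unique hL (h0 _) h1 (isComm_one _))
    change o'.left.appTop ((c t).val : Γ((U t).toScheme, ⊤)) = 1 at h2
    rw [hc' t, ← CommRingCat.comp_apply, ← Scheme.Hom.comp_appTop, Over.w o'] at h2
    exact h2
  have hc1 : ∀ t, c t = 1 := fun t => Units.ext ((hc' t).trans (by rw [hlam1]; exact RingHom.map_one _))
  refine commute_of_local hL h0 β₁ β₂ fun p => ?_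
  obtain ⟨x, hx⟩ := exists_isOverPt β₁
  obtain ⟨y, hy⟩ := exists_isOverPt β₂
  let g : T ⟶ T₀ := lift x y
  let t := g.left p
  let W : T.left.Opens := g.left ⁻¹ᵁ U t
  let g' : restr T W ⟶ restr T₀ (U t) := Over.homMk (g.left ∣_ U t) (by
    show _ ≫ (U t).ι ≫ T₀.hom = W.ι ≫ T.hom
    rw [morphismRestrict_ι_assoc, Over.w g])
  have hg : g' ≫ restrι T₀ (U t) = restrι T W ≫ g := Over.OverMorphism.ext (morphismRestrict_ι _ _)
  have h1 := isComm_bc g' (hc t)
  rw [← Category.assoc, ← Category.assoc, hg, Category.assoc, Category.assoc, lift_fst, lift_snd, hc1 t,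
    _root_.map_one] at h1
  obtain ⟨α, β, hα, hβ, e⟩ := h1
  rw [unitPt_one, _root_.one_mul] at e
  exact ⟨W, hU t, commute_of_isOverPt hL (h0 _) (isOverPt_bc _ hx) (isOverPt_bc _ hy) hα hβ e⟩

end Groth.Agent.ThetaH3
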