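import Groth.Agent.ThetaH3.Transfer
import Groth.Agent.ThetaH3.Field
import Groth.Prelude.Def_AlgGrp

/-!
# Canonical lifts over the kernel of a homomorphism
-/

universe u

open CategoryTheory CategoryTheory.Limits MonoidalCategory CartesianMonoidalCategory MonObj AlgebraicGeometry
open Pseudofunctor Bicategory

noncomputable section

namespace Groth.Agent.ThetaH3

open ThetaGrp (thetaObj thetaPts transl IsOverPt bcLift IsBaseChange)

variable {S : Scheme.{u}} {A B : Over S} {L : A.left.Modules} {M : B.left.Modules}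
variable [GrpObj A] [GrpObj B] {f : A ⟶ B} [IsMonHom f] (D : Datum f L M)

theorem bc_one {T G : Over S} (g : T ⟶ G) : bc g (1 : thetaPts A L G) = 1 :=
  (bcHom (A := A) (L := L) g).map_one

theorem exists_can {T : Over S} {z : T ⟶ A} (hz : z ≫ f = 1) :
    ∃ α : thetaPts A L T, IsOverPt α z ∧ Rel D α 1 :=
  (existsUnique_rel D z 1 (hz ▸ isOverPt_one)).exists

/-- The point of `G(L)` over a point of the kernel. -/
def can {T : Over S} (z : T ⟶ A) (hz : z ≫ f = 1) : thetaPts A L T := (exists_can D hz).choose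

theorem isOverPt_can {T : Over S} (z : T ⟶ A) (hz : z ≫ f = 1) : IsOverPt (can D z hz) z :=
  (exists_can D hz).choose_spec.1

theorem rel_can {T : Over S} (z : T ⟶ A) (hz : z ≫ f = 1) : Rel D (can D z hz) 1 :=
  (exists_can D hz).choose_spec.2

theorem can_eq {T : Over S} {z : T ⟶ A} (hz : z ≫ f = 1) {α : thetaPts A L T} (hα : IsOverPt α z)
    (h : Rel D α 1) : can D z hz = α :=
  rel_unique D (isOverPt_can D z hz) (rel_can D z hz) hα h

theorem bc_can {T T' : Over S} (g : T' ⟶ T) {z : T ⟶ A} (hz : z ≫ f = 1) :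
    bc g (can D z hz) = can D (g ≫ z) (by rw [Category.assoc, hz, MonObj.comp_one]) :=
  (can_eq D _ (isOverPt_bc g (isOverPt_can D z hz)) (by simpa only [bc_one] using rel_bc D g (rel_can D z hz))).symm

theorem can_mul [IsCommMonObj A] {T : Over S} {z w : T ⟶ A} (hz : z ≫ f = 1) (hw : w ≫ f = 1) :
    can D z hz * can D w hw = can D (z * w) (by rw [MonObj.mul_comp, hz, hw, _root_.one_mul]) := by
  refine (can_eq D _ ?_ ?_).symm
  · rw [mul_comm z w]
    exact isOverPt_mul (isOverPt_can D z hz) (isOverPt_can D w hw)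
  · simpa using rel_mul D (rel_can D z hz) (rel_can D w hw)

variable {N : Over S} [GrpObj N] {i : N ⟶ A}

omit [GrpObj N] in
theorem ker_comp (hN : AlgGrp.IsKernel i f) {T : Over S} (n : T ⟶ N) : (n ≫ i) ≫ f = 1 := by
  rw [Category.assoc, hN.w, ← Hom.one_def, MonObj.comp_one]

omit [GrpObj N] [IsMonHom f] in
theorem isClosedImmersion_of_isKernel [IsSeparated B.hom] (hN : AlgGrp.IsKernel i f) : IsClosedImmersion i.left := by
  haveI : IsClosedImmersion η[B].left := by
    haveI : IsClosedImmersion (η[B].left ≫ B.hom) := by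
      rw [Over.w η[B]]
      show IsClosedImmersion (𝟙 S)
      infer_instance
    exact IsClosedImmersion.of_comp η[B].left B.hom
  exact MorphismProperty.of_isPullback (P := @IsClosedImmersion) (hN.map (Over.forget S)).flip ‹IsClosedImmersion η[B].left›

include D in
theorem exists_level [IsCommMonObj A] [IsMonHom i] [IsSeparated B.hom] (hN : AlgGrp.IsKernel i f)
    {G : Over S} [GrpObj G] (u : thetaPts A L G) (hG : ThetaGrp.IsThetaGrpSch A L G u) :
    ∃ j : N ⟶ G, IsMonHom j ∧ ThetaGrp.IsLevelSubgrp u j ∧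
      ∀ (T : Over S) (n : T ⟶ N) (β : thetaPts A L T), IsBaseChange β (n ≫ j) u → IsOverPt β (n ≫ i) := by
  have hi : i ≫ f = 1 := by simpa using ker_comp hN (𝟙 N)
  obtain ⟨j, hj, -⟩ := hG.univ N (can D i hi)
  have key : ∀ {T : Over S} (n : T ⟶ N), bc (n ≫ j) u = can D (n ≫ i) (ker_comp hN n) := fun n => by
    rw [← bc_bc, bc_eq hj, bc_can D n hi]
  have hmul : ∀ {T : Over S} (n m : T ⟶ N), (n * m) ≫ j = (n ≫ j) * (m ≫ j) := fun {T} n m => by
    obtain ⟨g, -, hg⟩ := hG.univ T (can D ((n * m) ≫ i) (ker_comp hN (n * m)))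
    rw [hg ((n * m) ≫ j) (key (n * m) ▸ isBaseChange_bc _ u)]
    refine (hg _ ?_).symm
    have h := hG.mul T (n ≫ j) (m ≫ j) _ _ (key n ▸ isBaseChange_bc _ u) (key m ▸ isBaseChange_bc _ u)
    rw [can_mul] at h
    simp only [MonObj.mul_comp]
    exact h
  have hone : ∀ T : Over S, (1 : T ⟶ N) ≫ j = 1 := fun T => by
    have h := hmul (1 : T ⟶ N) 1
    rw [_root_.one_mul] at h
    exact right_eq_mul.1 h
  have hjh : IsMonHom j := {
    one_hom := by
      have h := hone (𝟙_ (Over S))
      simpa [Hom.one_def] using h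
    mul_hom := by
      have h := hmul (fst N N) (snd N N)
      rw [Hom.mul_def, lift_fst_snd, Category.id_comp, Hom.mul_def, lift_comp_fst_snd_aux] at h
      exact h }
  refine ⟨j, hjh, ⟨?_, hjh, ?_⟩, fun T n β hβ => ?_⟩
  · haveI := isClosedImmersion_of_isKernel (f := f) hN
    obtain ⟨π, hπ⟩ := exists_isOverPt u
    have e : j ≫ π = i := isOverPt_unique (bc_isOverPt hj hπ) (isOverPt_can D i hi)
    haveI : IsImmersion (j.left ≫ π.left) := by rw [← Over.comp_left, e]; infer_instance
    exact IsImmersion.of_comp j.left π.left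
  · intro T h β hβ h1
    rw [← bc_eq hβ, key] at h1
    have e := isOverPt_unique (isOverPt_can D _ (ker_comp hN h)) h1
    haveI := isClosedImmersion_of_isKernel (f := f) hN
    haveI : Mono i := Over.mono_of_mono_left i
    rw [← cancel_mono i, e, MonObj.one_comp]
  · rw [← bc_eq hβ, key]
    exact isOverPt_can D _ _
where
  lift_comp_fst_snd_aux {N G : Over S} (j : N ⟶ G) :
      lift (fst N N ≫ j) (snd N N ≫ j) = tensorHom j j := by
    apply CartesianMonoidalCategory.hom_ext <;> simp

end Groth.Agent.ThetaH3
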