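import Groth.Agent.ThetaH3.Sect
import Groth.Agent.ThetaH3.KerLift
import Groth.Agent.PicfLib.FppfLine.Effective

/-!
# An action of the kernel on a line bundle descends it
-/

universe u

open CategoryTheory CategoryTheory.Limits MonoidalCategory CartesianMonoidalCategory MonObj AlgebraicGeometry
open Pseudofunctor Bicategory TopologicalSpace

noncomputable section

namespace Groth.Agent.ThetaH3

open ThetaGrp (thetaObj thetaPts transl IsOverPt bcLift IsBaseChange)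
open Groth.Agent.PicfLib.FppfLine (Chart ev)
open Groth.Agent.InvX Groth.Agent.AModX

set_option backward.isDefEq.respectTransparency false

section Sec

variable {P Q R : MP.{u}}

/-- The section over `P` given by a chart of the module of `Q`. -/
def sec (χ : P ⟶ Q) [IsIso χ.fiber] (a : Chart (fib Q)) (h : ∀ t, χ.base t ∈ a.O) : Γ(fib P, ⊤) :=
  res (fib P) (fun t _ => h t : (⊤ : P.base.Opens) ≤ χ.base ⁻¹ᵁ a.O) (exists_val χ a.e).choose

theorem sec_eq (χ : P ⟶ Q) [IsIso χ.fiber] (a : Chart (fib Q)) (h : ∀ t, χ.base t ∈ a.O)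
    {v : Γ(fib P, χ.base ⁻¹ᵁ a.O)} (hv : Val χ a.e v) :
    sec χ a h = res (fib P) (fun t _ => h t : (⊤ : P.base.Opens) ≤ χ.base ⁻¹ᵁ a.O) v := by
  rw [val_unique χ hv (exists_val χ a.e).choose_spec]
  rfl

theorem isFrame_sec (χ : P ⟶ Q) [IsIso χ.fiber] (a : Chart (fib Q)) (h : ∀ t, χ.base t ∈ a.O) :
    IsFrame (sec χ a h) := by
  haveI : IsIso (fibMap χ) := ‹IsIso χ.fiber›
  refine IsFrame.res ?_ _
  have hf := (isFrame_pullElt χ.base a.he).map_iso (asIso (fibMap χ)).symm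
  rwa [← (exists_val χ a.e).choose_spec,
    show ∀ t, (asIso (fibMap χ)).symm.hom.app _ ((fibMap χ).app _ t) = t from fun t =>
      congrArg (fun g => Scheme.Modules.Hom.app g _ t) (IsIso.hom_inv_id (fibMap χ))] at hf

theorem sec_congr {χ χ' : P ⟶ Q} [IsIso χ.fiber] [IsIso χ'.fiber] (e : χ = χ') (a : Chart (fib Q))
    (h : ∀ t, χ.base t ∈ a.O) (h' : ∀ t, χ'.base t ∈ a.O) : sec χ a h = sec χ' a h' := by
  subst e
  rfl

theorem sec_smul (χ : P ⟶ Q) [IsIso χ.fiber] (a a' : Chart (fib Q)) (hle : a'.O ≤ a.O) (r : Γ(Q.base, a'.O))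
    (e : a'.e = r • res (fib Q) hle a.e) (h : ∀ t, χ.base t ∈ a.O) (h' : ∀ t, χ.base t ∈ a'.O) :
    sec χ a' h' = ev χ.base a'.O h' r • sec χ a h := by
  obtain ⟨v, hv⟩ := exists_val χ a.e
  have hv' : Val χ a'.e (χ.base.app a'.O r • res (fib P) (χ.base.preimage_mono hle) v) := by
    show (fibMap χ).app _ _ = _
    rw [Scheme.Modules.Hom.app_smul, res_val χ hle hv, e, InvX.pullElt_smul]
  rw [sec_eq χ a' h' hv', sec_eq χ a h hv, res_smul, res_res]
  congr 1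

theorem exists_pullSec (τ : P ⟶ Q) [IsIso τ.fiber] (s : Γ(fib Q, ⊤)) : ∃ w : Γ(fib P, ⊤), Val τ s w :=
  exists_val τ s

/-- The inverse image of a global section. -/
def pullSec (τ : P ⟶ Q) [IsIso τ.fiber] (s : Γ(fib Q, ⊤)) : Γ(fib P, ⊤) := (exists_pullSec τ s).choose

theorem pullSec_smul (τ : P ⟶ Q) [IsIso τ.fiber] (c : Γ(Q.base, ⊤)) (s : Γ(fib Q, ⊤)) :
    pullSec τ (c • s) = τ.base.appTop c • pullSec τ s := by
  refine val_unique τ (exists_pullSec τ _).choose_spec ?_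
  show (fibMap τ).app _ _ = _
  rw [InvX.pullElt_smul, ← (exists_pullSec τ s).choose_spec]
  exact Scheme.Modules.Hom.app_smul _ _ _

theorem sec_comp (τ : P ⟶ Q) (χ : Q ⟶ R) [IsIso τ.fiber] [IsIso χ.fiber] [IsIso (τ ≫ χ).fiber]
    (a : Chart (fib R)) (h : ∀ t, χ.base t ∈ a.O) (h' : ∀ t, (τ ≫ χ).base t ∈ a.O) :
    sec (τ ≫ χ) a h' = pullSec τ (sec χ a h) := by
  obtain ⟨v, hv⟩ := exists_val χ a.e
  obtain ⟨w, hw⟩ := exists_val τ v
  have hle : (⊤ : Q.base.Opens) ≤ χ.base ⁻¹ᵁ a.O := fun t _ => h t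
  rw [sec_eq (τ ≫ χ) a h' (val_comp τ χ hv hw), sec_eq χ a h hv]
  exact val_unique τ (res_val τ hle hw) (exists_pullSec τ _).choose_spec

theorem exists_coef (χ χ' : P ⟶ Q) [IsIso χ.fiber] [IsIso χ'.fiber] (a b : Chart (fib Q))
    (h : ∀ t, χ.base t ∈ a.O) (h' : ∀ t, χ'.base t ∈ b.O) :
    ∃ c : Γ(P.base, ⊤), IsUnit c ∧ sec χ a h = c • sec χ' b h' := by
  obtain ⟨c, hc⟩ := (isFrame_sec χ' b h').exists_coord le_rfl (sec χ a h)
  obtain ⟨d, hd⟩ := (isFrame_sec χ a h).exists_coord le_rfl (sec χ' b h')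
  rw [res_self] at hc hd
  refine ⟨c, IsUnit.of_mul_eq_one d ((isFrame_sec χ a h).coord_unique le_rfl ?_), hc⟩
  rw [res_self, one_smul, mul_smul, ← hd, ← hc]

theorem coef_unique (χ χ' : P ⟶ Q) [IsIso χ.fiber] [IsIso χ'.fiber] (a b : Chart (fib Q))
    (h : ∀ t, χ.base t ∈ a.O) (h' : ∀ t, χ'.base t ∈ b.O) {c d : Γ(P.base, ⊤)}
    (hc : sec χ a h = c • sec χ' b h') (hd : sec χ a h = d • sec χ' b h') : c = d :=
  (isFrame_sec χ' b h').coord_unique le_rfl (by rw [res_self, ← hc, ← hd])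

end Sec

variable {S : Scheme.{u}} {A : Over S} (L : A.left.Modules)

/-- The point `x` with its module. -/
abbrev pt {T : Over S} (x : T ⟶ A) : MP.{u} := ⟨T.left, (Scheme.Modules.pullback x.left).obj L⟩

/-- Its morphism to `(A, L)`. -/
def ptι {T : Over S} (x : T ⟶ A) : pt L x ⟶ (⟨A.left, L⟩ : MP.{u}) := ⟨x.left, 𝟙 _⟩

instance isIso_ptι_fiber {T : Over S} (x : T ⟶ A) : IsIso (ptι L x).fiber := inferInstanceAs (IsIso (𝟙 _))

omit L in
theorem ptι_base {T : Over S} {L : A.left.Modules} (x : T ⟶ A) : (ptι L x).base = x.left := rfl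

theorem existsUnique_sigma {T : Over S} (x : T ⟶ A) :
    ∃! χ : pt L x ⟶ thetaObj A L T, χ.base = (lift x (𝟙 T)).left ∧ χ ≫ proj A L T = ptι L x := by
  refine existsUnique_lift (proj A L T) _ _ ?_
  show (lift x (𝟙 T)).left ≫ (fst A T).left = x.left
  rw [← Over.comp_left, lift_fst]

/-- The lift of a point to `(A × T, L_T)`. -/
def sigma {T : Over S} (x : T ⟶ A) : pt L x ⟶ thetaObj A L T := (existsUnique_sigma L x).choose

theorem sigma_base {T : Over S} (x : T ⟶ A) : (sigma L x).base = (lift x (𝟙 T)).left :=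
  (existsUnique_sigma L x).choose_spec.1.1

theorem sigma_proj {T : Over S} (x : T ⟶ A) : sigma L x ≫ proj A L T = ptι L x :=
  (existsUnique_sigma L x).choose_spec.1.2

instance isIso_sigma_fiber {T : Over S} (x : T ⟶ A) : IsIso (sigma L x).fiber := by
  refine isIso_fiber_of_comp _ (proj A L T) ?_
  rw [sigma_proj]
  infer_instance

variable {L} [GrpObj A]

/-- The point moved by a point of the theta group. -/
def moved {T : Over S} (x : T ⟶ A) (α : thetaPts A L T) : pt L x ⟶ (⟨A.left, L⟩ : MP.{u}) :=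
  sigma L x ≫ α.1.hom ≫ proj A L T

instance isIso_moved_fiber {T : Over S} (x : T ⟶ A) (α : thetaPts A L T) : IsIso (moved x α).fiber := by
  haveI := isIso_fiber α.1.hom
  haveI := isIso_fiber_comp α.1.hom (proj A L T)
  exact isIso_fiber_comp _ _

theorem moved_base {T : Over S} (x : T ⟶ A) {α : thetaPts A L T} {z : T ⟶ A} (hα : IsOverPt α z) :
    (moved x α).base = (x * z).left := by
  show (sigma L x).base ≫ α.1.hom.base ≫ (fst A T).left = _
  rw [sigma_base, show α.1.hom.base = _ from hα, ← Over.comp_left, ← Over.comp_left, ThetaGrp.transl_fst,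
    MonObj.comp_mul, lift_fst, lift_snd_assoc, Category.id_comp]

/-- Comparison of two points. -/
theorem exists_tau {T : Over S} (x : T ⟶ A) {α : thetaPts A L T} {z : T ⟶ A} (hα : IsOverPt α z) :
    ∃ τ : pt L x ⟶ pt L (x * z), IsIso τ.fiber ∧ τ.base = 𝟙 _ ∧ τ ≫ sigma L (x * z) = sigma L x ≫ α.1.hom := by
  obtain ⟨τ, ⟨hb, hτ⟩, -⟩ := existsUnique_lift (sigma L (x * z)) (sigma L x ≫ α.1.hom) (𝟙 _) (by
    show 𝟙 T.left ≫ _ = (sigma L x).base ≫ α.1.hom.base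
    rw [Category.id_comp, sigma_base, sigma_base, show α.1.hom.base = _ from hα, ← Over.comp_left]
    congr 1
    apply CartesianMonoidalCategory.hom_ext
    · simp [MonObj.comp_mul]
    · simp)
  refine ⟨τ, isIso_fiber_of_comp τ (sigma L (x * z)) ?_, hb, hτ⟩
  rw [hτ]
  haveI := isIso_fiber α.1.hom
  exact isIso_fiber_comp _ _

/-- Restriction of a point. -/
theorem exists_kappa {T T' : Over S} (g : T' ⟶ T) (x : T ⟶ A) :
    ∃ κ : pt L (g ≫ x) ⟶ pt L x, IsIso κ.fiber ∧ κ.base = g.left ∧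
      κ ≫ ptι L x = ptι L (g ≫ x) ∧ κ ≫ sigma L x = sigma L (g ≫ x) ≫ bcLift A L g := by
  obtain ⟨κ, ⟨hb, hκ⟩, -⟩ := existsUnique_lift (ptι L x) (ptι L (g ≫ x)) g.left (by
    show g.left ≫ x.left = (g ≫ x).left
    rw [Over.comp_left])
  refine ⟨κ, ?_, hb, hκ, hom_ext_lift (proj A L T) ?_ ?_⟩
  · refine isIso_fiber_of_comp κ (ptι L x) ?_
    rw [hκ]
    infer_instance
  · show κ.base ≫ (sigma L x).base = (sigma L (g ≫ x)).base ≫ (A ◁ g).left
    rw [hb, sigma_base, sigma_base, ← Over.comp_left, ← Over.comp_left]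
    congr 1
    apply CartesianMonoidalCategory.hom_ext <;> simp
  · rw [Category.assoc, Category.assoc, sigma_proj, hκ, bcLift_proj, sigma_proj]

variable {N : Over S} [GrpObj N] {i : N ⟶ A}

/-- A multiplicative natural family of points over a subgroup. -/
structure Action (i : N ⟶ A) (L : A.left.Modules) where
  /-- the point -/
  pt : ∀ {T : Over S}, (T ⟶ N) → thetaPts A L T
  over' : ∀ {T : Over S} (n : T ⟶ N), IsOverPt (pt n) (n ≫ i)
  nat : ∀ {T T' : Over S} (g : T' ⟶ T) (n : T ⟶ N), bc g (pt n) = pt (g ≫ n)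
  mul : ∀ {T : Over S} (n m : T ⟶ N), pt (n * m) = pt n * pt m

variable (F : Action i L)

/-- `c` compares the charts `a` at `x` and `b` at `x * n`. -/
def Coef {T : Over S} (x : T ⟶ A) (n : T ⟶ N) (a b : Chart L) (c : Γ(T.left, ⊤)) : Prop :=
  ∃ (h₁ : ∀ t, (ptι L x).base t ∈ a.O) (h₂ : ∀ t, (moved x (F.pt n)).base t ∈ b.O),
    sec (ptι L x) a h₁ = c • sec (moved x (F.pt n)) b h₂

theorem coef_unique' {T : Over S} {x : T ⟶ A} {n : T ⟶ N} {a b : Chart L} {c d : Γ(T.left, ⊤)}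
    (hc : Coef F x n a b c) (hd : Coef F x n a b d) : c = d := by
  obtain ⟨h₁, h₂, hc⟩ := hc
  obtain ⟨_, _, hd⟩ := hd
  exact coef_unique (ptι L x) (moved x (F.pt n)) a b h₁ h₂ hc hd

theorem coef_comp {T T' : Over S} (g : T' ⟶ T) {x : T ⟶ A} {n : T ⟶ N} {a b : Chart L} {c : Γ(T.left, ⊤)}
    (h : Coef F x n a b c) : Coef F (g ≫ x) (g ≫ n) a b (g.left.appTop c) := by
  obtain ⟨h₁, h₂, h⟩ := h
  obtain ⟨κ, _, hb, hκ, hκσ⟩ := exists_kappa (L := L) g x
  have hm : κ ≫ moved x (F.pt n) = moved (g ≫ x) (F.pt (g ≫ n)) := by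
    simp only [moved]
    rw [reassoc_of% hκσ, ← F.nat, ← reassoc_of% (isBaseChange_bc g (F.pt n)), bcLift_proj]
  haveI := isIso_fiber_comp κ (ptι L x)
  haveI := isIso_fiber_comp κ (moved x (F.pt n))
  refine ⟨fun t => ?_, fun t => ?_, ?_⟩
  · rw [← hκ]
    exact h₁ _
  · rw [← hm]
    exact h₂ _
  · have e := congrArg (pullSec κ) h
    rw [pullSec_smul, hb] at e
    rw [← sec_congr hκ a (fun t => h₁ _), sec_comp κ (ptι L x) a h₁, e,
      ← sec_comp κ (moved x (F.pt n)) b h₂ (fun t => h₂ _)]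
    exact congrArg _ (sec_congr hm b (fun t => h₂ _) _)

theorem coef_trans [IsCommMonObj A] [Mono i] [IsMonHom i] {T : Over S} {x : T ⟶ A} {n m : T ⟶ N}
    {a b e : Chart L} {c d : Γ(T.left, ⊤)} (hc : Coef F x n a b c) (hd : Coef F (x * (n ≫ i)) m b e d) :
    Coef F x (n * m) a e (c * d) := by
  obtain ⟨h₁, h₂, hc⟩ := hc
  obtain ⟨k₁, k₂, hd⟩ := hd
  obtain ⟨τ, _, hb, hτ⟩ := exists_tau x (F.over' n)
  have e1 : τ ≫ ptι L (x * (n ≫ i)) = moved x (F.pt n) := by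
    rw [← sigma_proj, ← Category.assoc, hτ, Category.assoc]
    rfl
  have e2 : τ ≫ moved (x * (n ≫ i)) (F.pt m) = moved x (F.pt (n * m)) := by
    have hnm : n * m = m * n := by
      rw [← cancel_mono i, MonObj.mul_comp, MonObj.mul_comp, mul_comm]
    simp only [moved]
    rw [hnm, F.mul, ← Category.assoc, hτ, Category.assoc]
    show sigma L x ≫ (F.pt n).1.hom ≫ (F.pt m).1.hom ≫ _ = sigma L x ≫ ((F.pt n).1.hom ≫ (F.pt m).1.hom) ≫ _
    rw [Category.assoc]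
  haveI := isIso_fiber_comp τ (ptι L (x * (n ≫ i)))
  haveI := isIso_fiber_comp τ (moved (x * (n ≫ i)) (F.pt m))
  refine ⟨h₁, fun t => ?_, ?_⟩
  · rw [← e2]
    exact k₂ _
  · have e := congrArg (pullSec τ) hd
    rw [pullSec_smul, ← sec_comp τ (ptι L (x * (n ≫ i))) b k₁ (fun t => k₁ _),
      ← sec_comp τ (moved (x * (n ≫ i)) (F.pt m)) _ k₂ (fun t => k₂ _), sec_congr e1 b (fun t => k₁ _) h₂,
      show τ.base.appTop d = d from (congrArg (fun q : T.left ⟶ T.left => q.appTop d) hb).trans (by simp)] at e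
    rw [hc, e, mul_smul]
    exact congrArg (fun s => c • d • s) (sec_congr e2 _ (fun t => k₂ _) _)

variable {B : Over S} [GrpObj B] {f : A ⟶ B} [IsMonHom f] (hN : AlgGrp.IsKernel i f)

include hN in
theorem exists_sep [Mono i] {T : Scheme.{u}} (g₁ g₂ : T ⟶ A.left) (h : g₁ ≫ f.left = g₂ ≫ f.left) :
    ∃ n : Over.mk (g₁ ≫ A.hom) ⟶ N, ((Over.homMk g₁ rfl : Over.mk (g₁ ≫ A.hom) ⟶ A) * (n ≫ i)).left = g₂ := by
  let x₁ : Over.mk (g₁ ≫ A.hom) ⟶ A := Over.homMk g₁ rfl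
  let x₂ : Over.mk (g₁ ≫ A.hom) ⟶ A := Over.homMk g₂ (by
    show g₂ ≫ A.hom = g₁ ≫ A.hom
    rw [← Over.w f, ← Category.assoc, ← h, Category.assoc])
  have he : x₁ ≫ f = x₂ ≫ f := Over.OverMorphism.ext h
  have hz : (x₁⁻¹ * x₂) ≫ f = toUnit _ ≫ η[B] := by
    rw [← Hom.one_def, MonObj.mul_comp, ← he, ← MonObj.mul_comp, inv_mul_cancel, MonObj.one_comp]
  refine ⟨hN.lift (x₁⁻¹ * x₂) (toUnit _) hz, ?_⟩
  rw [hN.lift_fst, mul_inv_cancel_left]
  rfl

theorem sep_unique [Mono i] {T : Over S} {x : T ⟶ A} {n m : T ⟶ N}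
    (h : (x * (n ≫ i)).left = (x * (m ≫ i)).left) : n = m :=
  (cancel_mono i).1 (mul_left_cancel (Over.OverMorphism.ext h))

variable [Mono i]

/-- The point separating two points over the same point of the base. -/
def sep {T : Scheme.{u}} (g₁ g₂ : T ⟶ A.left) (h : g₁ ≫ f.left = g₂ ≫ f.left) : Over.mk (g₁ ≫ A.hom) ⟶ N :=
  (exists_sep hN g₁ g₂ h).choose

theorem mul_sep {T : Scheme.{u}} (g₁ g₂ : T ⟶ A.left) (h : g₁ ≫ f.left = g₂ ≫ f.left) :
    ((Over.homMk g₁ rfl : Over.mk (g₁ ≫ A.hom) ⟶ A) * (sep hN g₁ g₂ h ≫ i)).left = g₂ :=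
  (exists_sep hN g₁ g₂ h).choose_spec

include hN in
theorem exists_gamma {T : Scheme.{u}} (g₁ g₂ : T ⟶ A.left) (a b : Chart L) (h : g₁ ≫ f.left = g₂ ≫ f.left)
    (h₁ : ∀ t, g₁ t ∈ a.O) (h₂ : ∀ t, g₂ t ∈ b.O) :
    ∃ c : Γ(T, ⊤), IsUnit c ∧
      Coef F (Over.homMk g₁ rfl : Over.mk (g₁ ≫ A.hom) ⟶ A) (sep hN g₁ g₂ h) a b c := by
  let x : Over.mk (g₁ ≫ A.hom) ⟶ A := Over.homMk g₁ rfl
  have hb : (moved x (F.pt (sep hN g₁ g₂ h))).base = g₂ :=
    (moved_base x (F.over' _)).trans (mul_sep hN g₁ g₂ h)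
  have k₂ : ∀ t, (moved x (F.pt (sep hN g₁ g₂ h))).base t ∈ b.O := fun t => by rw [hb]; exact h₂ t
  obtain ⟨c, hc, e⟩ := exists_coef (ptι L x) (moved x (F.pt (sep hN g₁ g₂ h))) a b h₁ k₂
  exact ⟨c, hc, h₁, k₂, e⟩

variable [IsCommMonObj A] [IsMonHom i]

/-- The descent datum of an action of the kernel. -/
def Action.datum : Groth.Agent.PicfLib.FppfLine.Datum f.left L where
  «γ» g₁ g₂ a b h h₁ h₂ := (exists_gamma F hN g₁ g₂ a b h h₁ h₂).choose
  isUnit g₁ g₂ a b h h₁ h₂ := (exists_gamma F hN g₁ g₂ a b h h₁ h₂).choose_spec.1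
  nat := by
    intro T T' k g₁ g₂ a b h h₁ h₂ h' h₁' h₂'
    let g : Over.mk ((k ≫ g₁) ≫ A.hom) ⟶ Over.mk (g₁ ≫ A.hom) := Over.homMk k (Category.assoc _ _ _).symm
    have hx : g ≫ (Over.homMk g₁ rfl : Over.mk (g₁ ≫ A.hom) ⟶ A) = Over.homMk (k ≫ g₁) rfl :=
      Over.OverMorphism.ext rfl
    have hn : sep hN (k ≫ g₁) (k ≫ g₂) h' = g ≫ sep hN g₁ g₂ h := by
      refine sep_unique (i := i) (x := Over.homMk (k ≫ g₁) rfl) ?_
      refine (mul_sep hN (k ≫ g₁) (k ≫ g₂) h').trans ?_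
      rw [← hx, Category.assoc g (sep hN g₁ g₂ h) i, ← MonObj.comp_mul, Over.comp_left]
      exact (congrArg (k ≫ ·) (mul_sep hN g₁ g₂ h)).symm
    have e1 := (exists_gamma F hN (k ≫ g₁) (k ≫ g₂) a b h' h₁' h₂').choose_spec.2
    have e2 := coef_comp F g (exists_gamma F hN g₁ g₂ a b h h₁ h₂).choose_spec.2
    rw [hx, ← hn] at e2
    exact coef_unique' F e1 e2
  left := by
    intro T g₁ g₂ a a' b hle r e h h₁ h₁' h₂
    have e1 := (exists_gamma F hN g₁ g₂ a' b h h₁' h₂).choose_spec.2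
    obtain ⟨k₁, k₂, e2⟩ := (exists_gamma F hN g₁ g₂ a b h h₁ h₂).choose_spec.2
    refine coef_unique' F e1 ⟨h₁', k₂, ?_⟩
    rw [sec_smul (ptι L (Over.homMk g₁ rfl : Over.mk (g₁ ≫ A.hom) ⟶ A)) a a' hle r e h₁ h₁', e2, smul_smul]
    rfl
  right := by
    intro T g₁ g₂ a b b' hle r e h h₁ h₂ h₂'
    obtain ⟨k₁, k₂, e1⟩ := (exists_gamma F hN g₁ g₂ a b' h h₁ h₂').choose_spec.2
    have e2 := (exists_gamma F hN g₁ g₂ a b h h₁ h₂).choose_spec.2
    let x : Over.mk (g₁ ≫ A.hom) ⟶ A := Over.homMk g₁ rfl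
    have hb : (moved x (F.pt (sep hN g₁ g₂ h))).base = g₂ :=
      (moved_base x (F.over' _)).trans (mul_sep hN g₁ g₂ h)
    have k₂' : ∀ t, (moved x (F.pt (sep hN g₁ g₂ h))).base t ∈ b.O := fun t => by rw [hb]; exact h₂ t
    refine coef_unique' F ⟨k₁, k₂', ?_⟩ e2
    rw [e1, sec_smul (moved x (F.pt (sep hN g₁ g₂ h))) b b' hle r e k₂' k₂, smul_smul]
    congr 2
    exact Groth.Agent.PicfLib.FppfLine.ev_congr hb _ _ _ _
  cocycle := by
    intro T g₁ g₂ g₃ a b c h₁₂ h₂₃ h₁₃ h₁ h₂ h₃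
    let x₁ : Over.mk (g₁ ≫ A.hom) ⟶ A := Over.homMk g₁ rfl
    have hw : g₂ ≫ A.hom = g₁ ≫ A.hom := by
      rw [← Over.w f, ← Category.assoc, ← h₁₂, Category.assoc]
    let g : Over.mk (g₁ ≫ A.hom) ⟶ Over.mk (g₂ ≫ A.hom) := Over.homMk (𝟙 T) ((Category.id_comp _).trans hw)
    have hx : g ≫ (Over.homMk g₂ rfl : Over.mk (g₂ ≫ A.hom) ⟶ A) = x₁ * (sep hN g₁ g₂ h₁₂ ≫ i) :=
      Over.OverMorphism.ext ((Category.id_comp g₂).trans (mul_sep hN g₁ g₂ h₁₂).symm)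
    have e12 := (exists_gamma F hN g₁ g₂ a b h₁₂ h₁ h₂).choose_spec.2
    have e23 := coef_comp F g (exists_gamma F hN g₂ g₃ b c h₂₃ h₂ h₃).choose_spec.2
    rw [hx, show g.left.appTop (exists_gamma F hN g₂ g₃ b c h₂₃ h₂ h₃).choose = (exists_gamma F hN g₂ g₃ b c h₂₃ h₂ h₃).choose
      by simp [g]] at e23
    have e := coef_trans F e12 e23
    have hn : sep hN g₁ g₂ h₁₂ * (g ≫ sep hN g₂ g₃ h₂₃) = sep hN g₁ g₃ h₁₃ := by
      refine sep_unique (i := i) (x := x₁) ?_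
      rw [mul_sep, MonObj.mul_comp, ← _root_.mul_assoc, ← hx, Category.assoc, ← MonObj.comp_mul, Over.comp_left,
        mul_sep]
      exact Category.id_comp g₃
    rw [hn] at e
    exact (coef_unique' F e (exists_gamma F hN g₁ g₃ a c h₁₃ h₁ h₃).choose_spec.2)

include F hN in
/-- A line bundle with an action of the kernel descends. -/
theorem exists_descent [Flat f.left] [LocallyOfFinitePresentation f.left] [Surjective f.left]
    (hL : PicF.IsInvertible L) :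
    ∃ M : B.left.Modules, PicF.IsInvertible M ∧ Nonempty ((Scheme.Modules.pullback f.left).obj M ≅ L) :=
  Groth.Agent.PicfLib.FppfLine.exists_descent hL (F.datum hN)

end Groth.Agent.ThetaH3
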