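import Groth.Agent.ThetaH3.KerLift

/-!
# Commutation transferred along a homomorphism
-/

universe u

open CategoryTheory CategoryTheory.Limits MonoidalCategory CartesianMonoidalCategory MonObj AlgebraicGeometry

noncomputable section

namespace Groth.Agent.ThetaH3

open ThetaGrp (thetaObj thetaPts transl IsOverPt bcLift IsBaseChange)
open scoped Groth.Agent.H23.PicMul

variable {S : Scheme.{u}} {A : Over S} [GrpObj A] {L : A.left.Modules}

theorem restrι_homOfLE {T : Over S} {W U : T.left.Opens} (h : W ≤ U) :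
    (Over.homMk (T.left.homOfLE h) (by simp) : restr T W ⟶ restr T U) ≫ restrι T U = restrι T W := by
  ext : 1
  simp

/-- Lifts restrict to smaller opens. -/
theorem exists_lift_le {T : Over S} {x : T ⟶ A} {W U : T.left.Opens} (h : W ≤ U)
    {β : thetaPts A L (restr T U)} (hβ : IsOverPt β (restrι T U ≫ x)) :
    ∃ β' : thetaPts A L (restr T W), IsOverPt β' (restrι T W ≫ x) := by
  refine ⟨bc (Over.homMk (T.left.homOfLE h) (by simp) : restr T W ⟶ restr T U) β, ?_⟩
  rw [← restrι_homOfLE h, Category.assoc]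
  exact isOverPt_bc _ hβ

/-- Two points of `K(L)` lift on a common neighbourhood. -/
theorem exists_local_lift₂ [Subsingleton S] [Nonempty S] (hL : PicF.IsInvertible L) {T : Over S} {x y : T ⟶ A}
    (hx : ThetaGrp.IsMumfordTriv A L x) (hy : ThetaGrp.IsMumfordTriv A L y) (t : ↥T.left) :
    ∃ U : T.left.Opens, t ∈ U ∧ (∃ β : thetaPts A L (restr T U), IsOverPt β (restrι T U ≫ x)) ∧
      ∃ β : thetaPts A L (restr T U), IsOverPt β (restrι T U ≫ y) := by
  obtain ⟨U, hU, β, hβ⟩ := exists_local_lift hL hx t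
  obtain ⟨V, hV, γ', hγ⟩ := exists_local_lift hL hy t
  exact ⟨U ⊓ V, ⟨hU, hV⟩, exists_lift_le inf_le_left hβ, exists_lift_le inf_le_right hγ⟩

variable {B : Over S} [GrpObj B] {M : B.left.Modules} {f : A ⟶ B} [IsMonHom f]

theorem isIsotropic_iff [IsCommMonObj A] [IsCommMonObj B] [Subsingleton S] [Nonempty S] (D : Datum f L M)
    (hL : PicF.IsInvertible L) (hM : PicF.IsInvertible M) (hA : ∀ T : Over S, H0 A T) (hB : ∀ T : Over S, H0 B T)
    {H : Over S} (iH : H ⟶ A) (hH : ∀ (T : Over S) (x : T ⟶ H), ThetaGrp.IsMumfordTriv B M ((x ≫ iH) ≫ f)) :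
    ThetaGrp.IsIsotropic M (iH ≫ f) ↔ ThetaGrp.IsIsotropic L iH := by
  constructor
  · intro h T x y α α' hα hα'
    refine commute_of_local hL hA α α' fun t => ?_
    obtain ⟨U, ht, ⟨β, hβ⟩, ⟨β', hβ'⟩⟩ := exists_local_lift₂ hM (hH T x) (hH T y) t
    rw [← Category.assoc] at hβ hβ'
    obtain ⟨a, ⟨ha, hr⟩, -⟩ := existsUnique_rel D _ β hβ
    obtain ⟨a', ⟨ha', hr'⟩, -⟩ := existsUnique_rel D _ β' hβ'
    refine ⟨U, ht, commute_of_isOverPt hL (hA _) (isOverPt_bc _ hα) (isOverPt_bc _ hα') ha ha'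
      ((commute_iff_of_rel D hL hM (hA _) (hB _) hr hr').2 ?_)⟩
    refine h _ (restrι T U ≫ x) (restrι T U ≫ y) β β' ?_ ?_
    · simpa only [Category.assoc] using hβ
    · simpa only [Category.assoc] using hβ'
  · intro h T x y β β' hβ hβ'
    rw [← Category.assoc] at hβ hβ'
    obtain ⟨a, ⟨ha, hr⟩, -⟩ := existsUnique_rel D _ β hβ
    obtain ⟨a', ⟨ha', hr'⟩, -⟩ := existsUnique_rel D _ β' hβ'
    exact (commute_iff_of_rel D hL hM (hA _) (hB _) hr hr').1 (h T x y a a' ha ha')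

end Groth.Agent.ThetaH3
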