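import Groth.Agent.ThetaH3.Descent
import Groth.Agent.ThetaH3.Isotropic
import Groth.Agent.GrpSchLib.HomFlat

/-!
# Points orthogonal to the kernel descend
-/

universe u

open CategoryTheory CategoryTheory.Limits MonoidalCategory CartesianMonoidalCategory MonObj AlgebraicGeometry
open Pseudofunctor Bicategory

noncomputable section

namespace Groth.Agent.ThetaH3

open ThetaGrp (thetaObj thetaPts transl IsOverPt bcLift IsBaseChange)
open scoped Groth.Agent.H23.PicMul

theorem isPullback_whiskerRight {C : Type*} [Category C] [CartesianMonoidalCategory C] {A B : C} (f : A ⟶ B) (U : C) :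
    IsPullback (f ▷ U) (fst A U) (fst B U) f :=
  ⟨⟨whiskerRight_fst f U⟩, ⟨PullbackCone.IsLimit.mk (whiskerRight_fst f U)
    (fun s => lift s.snd (s.fst ≫ snd B U))
    (fun s => by
      apply CartesianMonoidalCategory.hom_ext
      · simp [s.condition]
      · simp)
    (fun s => by simp)
    (fun s m h₁ h₂ => by
      apply CartesianMonoidalCategory.hom_ext
      · simp [h₂]
      · simp [← h₁])⟩⟩

variable {k : Type u} [Field k] {A B : Over (Spec (CommRingCat.of k))}

theorem covers_hom [GrpObj A] [GrpObj B] [IsProper A.hom] [IsProper B.hom] [GeometricallyIntegral B.hom]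
    (f : A ⟶ B) [IsMonHom f] (hf : Surjective f.left) : FpqcDescLib.Covers f.left := by
  haveI : IsIntegral B.left := GeometricallyIntegral.isIntegral_of_subsingleton B.hom
  haveI : QuasiCompact (f.left ≫ B.hom) := by rw [Over.w f]; infer_instance
  haveI : QuasiCompact f.left := QuasiCompact.of_comp f.left B.hom
  haveI : Flat f.left := GrpSchLib.flat_of_surjective_hom f
  exact FpqcDescLib.covers_of_isCovering (FpqcDescLib.isCovering_of_quasiCompact f.left)

section

variable {S : Scheme.{u}} {A B : Over S} [GrpObj A] [GrpObj B] [IsCommMonObj A]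
variable {L : A.left.Modules} {M : B.left.Modules} {f : A ⟶ B} [IsMonHom f] (D : Datum f L M)

/-- A point of `G(L)` commuting with all canonical lifts of the kernel descends to `G(M)`. -/
theorem exists_desc (hf : FpqcDescLib.Covers f.left) (hM : PicF.IsInvertible M) {U : Over S}
    (α : thetaPts A L U) {x : U ⟶ A} (hx : IsOverPt α x)
    (hcomm : ∀ (T' : Over S) (g : T' ⟶ U) (z : T' ⟶ A) (hz : z ≫ f = 1),
      bc g α * can D z hz = can D z hz * bc g α) :
    ∃ β : thetaPts B M U, IsOverPt β (x ≫ f) ∧ Rel D α β := by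
  have hq : FpqcDescLib.Covers (phi D U).base := by
    rw [phi_base]
    exact FpqcDescLib.Covers.over_pullback hf (fst B U) (f ▷ U) (fst A U) (isPullback_whiskerRight f U)
  have hMU : PicF.IsInvertible (fib (thetaObj B M U)) := PicClLib.isInvertible_pullback _ hM
  have key : ∀ (α : thetaPts A L U) (x : U ⟶ A), IsOverPt α x →
      (∀ (T' : Over S) (g : T' ⟶ U) (z : T' ⟶ A) (hz : z ≫ f = 1),
        bc g α * can D z hz = can D z hz * bc g α) →
      ∃ ψ : thetaObj B M U ⟶ thetaObj B M U, ψ.base = (transl B (x ≫ f)).left ∧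
        phi D U ≫ ψ = α.1.hom ≫ phi D U := by
    intro α x hx hcomm
    refine (existsUnique_descend hq hMU hMU (transl B (x ≫ f)).left (α.1.hom ≫ phi D U) ?_ ?_).exists
    · rw [CoGrothendieck.categoryStruct_comp_base, show α.1.hom.base = _ from hx, phi_base, ← Over.comp_left,
        ← Over.comp_left, transl_whiskerRight]
    · intro Z χ₁ χ₂ _ he
      let T' : Over S := Over.mk (χ₁.base ≫ (A ⊗ U).hom)
      have heb : χ₁.base ≫ (f ▷ U).left = χ₂.base ≫ (f ▷ U).left := by
        have := congrArg CoGrothendieck.Hom.base he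
        simpa only [CoGrothendieck.categoryStruct_comp_base, phi_base] using this
      let c₁ : T' ⟶ A ⊗ U := Over.homMk χ₁.base rfl
      let c₂ : T' ⟶ A ⊗ U := Over.homMk χ₂.base (by
        show χ₂.base ≫ (A ⊗ U).hom = χ₁.base ≫ (A ⊗ U).hom
        rw [← Over.w (f ▷ U), ← Category.assoc, ← heb, Category.assoc])
      have hc : c₁ ≫ f ▷ U = c₂ ≫ f ▷ U := Over.OverMorphism.ext heb
      let a₁ := c₁ ≫ fst A U
      let a₂ := c₂ ≫ fst A U
      let g := c₁ ≫ snd A U
      have hg : c₂ ≫ snd A U = g := by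
        have := congrArg (fun h => h ≫ snd B U) hc
        simpa [g] using this.symm
      have ha : a₁ ≫ f = a₂ ≫ f := by
        have := congrArg (fun h => h ≫ fst B U) hc
        simpa [a₁, a₂] using this
      let z := a₁⁻¹ * a₂
      have hz : z ≫ f = 1 := by
        rw [MonObj.mul_comp, ← ha, ← MonObj.mul_comp, inv_mul_cancel, MonObj.one_comp]
      let s₁ : T' ⟶ A ⊗ T' := lift a₁ (𝟙 T')
      let s₂ : T' ⟶ A ⊗ T' := lift a₂ (𝟙 T')
      have hs₁ : s₁ ≫ A ◁ g = c₁ := by
        apply CartesianMonoidalCategory.hom_ext <;> simp [s₁, a₁, g]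
      have hs₂ : s₂ ≫ A ◁ g = c₂ := by
        apply CartesianMonoidalCategory.hom_ext <;> simp [s₂, a₂, hg]
      obtain ⟨σ₁, ⟨hσ₁b, hσ₁⟩, -⟩ := existsUnique_lift (bcLift A L g) χ₁ s₁.left (by
        rw [bcLift_base, ← Over.comp_left, hs₁]; rfl)
      obtain ⟨σ₂, ⟨hσ₂b, hσ₂⟩, -⟩ := existsUnique_lift (bcLift A L g) χ₂ s₂.left (by
        rw [bcLift_base, ← Over.comp_left, hs₂]; rfl)
      haveI : IsIso (bcLift A L g ≫ phi D U).fiber := isIso_fiber_comp _ _
      have hrel : (can D z hz).1.hom ≫ phi D T' = phi D T' :=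
        (rel_can D z hz).trans (Category.comp_id _)
      have hst : s₁ ≫ transl A z = s₂ := by
        apply CartesianMonoidalCategory.hom_ext
        · simp [s₁, s₂, z, MonObj.comp_mul]
        · simp [s₁, s₂]
      have h2 : σ₂ = σ₁ ≫ (can D z hz).1.hom := by
        refine hom_ext_lift (bcLift A L g ≫ phi D U) ?_ ?_
        · rw [CoGrothendieck.categoryStruct_comp_base, hσ₂b, hσ₁b,
            show (can D z hz).1.hom.base = _ from isOverPt_can D z hz]
          exact (congrArg (fun h => Over.Hom.left h) hst).symm.trans (Over.comp_left _ _ _ _ _)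
        · rw [← Category.assoc σ₂, hσ₂, ← he, Category.assoc, bcLift_phi, reassoc_of% hrel, ← bcLift_phi,
            ← Category.assoc, hσ₁]
      have hcm : (can D z hz).1.hom ≫ (bc g α).1.hom = (bc g α).1.hom ≫ (can D z hz).1.hom :=
        congrArg (fun p : thetaPts A L T' => p.1.hom) (hcomm T' g z hz)
      rw [← hσ₁, ← hσ₂, h2]
      simp only [Category.assoc]
      rw [← reassoc_of% (isBaseChange_bc g α), reassoc_of% hcm, bcLift_phi, reassoc_of% hrel]
  obtain ⟨ψ, hψb, hψ⟩ := key α x hx hcomm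
  obtain ⟨ψ', hψ'b, hψ'⟩ := key α⁻¹ x⁻¹ (isOverPt_inv hx) fun T' g z hz => by
    have h := (Commute.inv_left (hcomm T' g z hz : Commute (bc g α) (can D z hz))).eq
    rwa [show bc g α⁻¹ = (bc g α)⁻¹ from map_inv (bcHom (A := A) (L := L) g) α]
  have huniq := existsUnique_descend hq hMU hMU (𝟙 _) (phi D U) (by rw [Category.comp_id])
    (fun _ _ _ _ h => h)
  have hb : ∀ (p q : thetaObj B M U ⟶ thetaObj B M U) (a b : U ⟶ A), p.base = (transl B (a ≫ f)).left →
      q.base = (transl B (b ≫ f)).left → a * b = 1 → (p ≫ q).base = 𝟙 _ := by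
    intro p q a b hp hq' hab
    rw [CoGrothendieck.categoryStruct_comp_base, hp, hq', ← Over.comp_left, ← ThetaGrp.transl_mul,
      ← MonObj.mul_comp, hab, MonObj.one_comp, ThetaGrp.transl_one]
    rfl
  have e1 : ψ ≫ ψ' = 𝟙 _ := huniq.unique ⟨hb ψ ψ' x x⁻¹ hψb hψ'b (mul_inv_cancel x), by
    rw [← Category.assoc, hψ, Category.assoc, hψ', ← Category.assoc]
    show (α.1.hom ≫ α⁻¹.1.hom) ≫ _ = _
    rw [show α.1.hom ≫ α⁻¹.1.hom = (α⁻¹ * α : thetaPts A L U).1.hom from rfl, inv_mul_cancel]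
    exact Category.id_comp _⟩ ⟨rfl, Category.comp_id _⟩
  have e2 : ψ' ≫ ψ = 𝟙 _ := huniq.unique ⟨hb ψ' ψ x⁻¹ x hψ'b hψb (inv_mul_cancel x), by
    rw [← Category.assoc, hψ', Category.assoc, hψ, ← Category.assoc]
    show (α⁻¹.1.hom ≫ α.1.hom) ≫ _ = _
    rw [show α⁻¹.1.hom ≫ α.1.hom = (α * α⁻¹ : thetaPts A L U).1.hom from rfl, mul_inv_cancel]
    exact Category.id_comp _⟩ ⟨rfl, Category.comp_id _⟩
  exact ⟨⟨⟨ψ, ψ', e1, e2⟩, x ≫ f, hψb⟩, hψb, hψ.symm⟩

end

section Field

variable [GrpObj A] [IsCommMonObj A] [IsProper A.hom] [GeometricallyIntegral A.hom]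
  [GrpObj B] [IsCommMonObj B] [IsProper B.hom] [GeometricallyIntegral B.hom]
variable {L : A.left.Modules} {M : B.left.Modules} {f : A ⟶ B} [IsMonHom f] (D : Datum f L M)
variable {N : Over (Spec (CommRingCat.of k))} {i : N ⟶ A}

include D in
/-- `f⁻¹K(M)` is the orthogonal of the kernel in `K(L)`. -/
theorem mumford_iff_perp (hf : Surjective f.left) (hN : AlgGrp.IsKernel i f) (hL : PicF.IsInvertible L)
    (hM : PicF.IsInvertible M) {T : Over (Spec (CommRingCat.of k))} (x : T ⟶ A) :
    ThetaGrp.IsMumfordTriv B M (x ≫ f) ↔ ThetaGrp.IsMumfordTriv A L x ∧ ThetaGrp.IsPerpPt L i x := by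
  have hA := fun T => h0_of_geometricallyIntegral A T
  have hB := fun T => h0_of_geometricallyIntegral B T
  refine ⟨fun h => ⟨mumford_of_local_lift hL (h0_app_of_geometricallyIntegral A T) fun t => ?_, ?_⟩,
    fun ⟨h, hp⟩ => mumford_of_local_lift hM (h0_app_of_geometricallyIntegral B T) fun t => ?_⟩
  · obtain ⟨U, ht, β, hβ⟩ := exists_local_lift hM h t
    rw [← Category.assoc] at hβ
    obtain ⟨α, ⟨hα, -⟩, -⟩ := existsUnique_rel D _ β hβ
    exact ⟨U, ht, α, hα⟩
  · intro T' g y α γ' hα hγ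
    refine commute_of_local hL hA α γ' fun t => ?_
    obtain ⟨U, ht, β, hβ⟩ := exists_local_lift hM h (g.left t)
    let W : T'.left.Opens := g.left ⁻¹ᵁ U
    let g' : restr T' W ⟶ restr T U := Over.homMk (g.left ∣_ U) (by
      show _ ≫ U.ι ≫ T.hom = W.ι ≫ T'.hom
      rw [morphismRestrict_ι_assoc, Over.w g])
    have hg : g' ≫ restrι T U = restrι T' W ≫ g := Over.OverMorphism.ext (morphismRestrict_ι _ _)
    have hb := isOverPt_bc g' hβ
    rw [← Category.assoc, hg, Category.assoc, ← Category.assoc g x f, ← Category.assoc] at hb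
    obtain ⟨a, ⟨ha, hr⟩, -⟩ := existsUnique_rel D _ _ hb
    have hz : ((restrι T' W ≫ y) ≫ i) ≫ f = 1 := ker_comp hN _
    refine ⟨W, ht, commute_of_isOverPt hL (hA _) (isOverPt_bc _ hα) (isOverPt_bc _ hγ) ha
      (by simpa only [Category.assoc] using isOverPt_can D _ hz) ?_⟩
    exact (commute_iff_of_rel D hL hM (hA _) (hB _) hr (rel_can D _ hz)).2
      (by rw [_root_.mul_one, _root_.one_mul])
  · obtain ⟨U, ht, α, hα⟩ := exists_local_lift hL h t
    obtain ⟨β, hβ, -⟩ := exists_desc D (covers_hom f hf) hM α hα fun T' g z hz => by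
      let n := hN.lift z (toUnit T') (by rw [hz, Hom.one_def])
      exact hp T' (g ≫ restrι T U) n _ _
        (by simpa only [Category.assoc] using isOverPt_bc g hα)
        (by rw [show n ≫ i = z from hN.lift_fst _ _ _]; exact isOverPt_can D z hz)
    exact ⟨U, ht, β, by simpa only [Category.assoc] using hβ⟩

end Field

end Groth.Agent.ThetaH3
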