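import Groth.Agent.ThetaH3.KLExist
import Groth.Prelude.Def_GmPts

/-!
# A scheme representing the theta group is of finite type
-/

set_option autoImplicit false
set_option linter.style.haveILetI false
set_option backward.isDefEq.respectTransparency false

universe u

open CategoryTheory CategoryTheory.Limits MonoidalCategory CartesianMonoidalCategory MonObj AlgebraicGeometry
open TopologicalSpace Opposite

noncomputable section

namespace Groth.Agent.ThetaH3

open ThetaGrp (thetaObj thetaPts transl IsOverPt bcLift IsBaseChange)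

theorem gm_finiteType (S : Scheme.{u}) :
    QuasiCompact (Red.Gm S).hom ∧ LocallyOfFiniteType (Red.Gm S).hom := by
  let R := ULift.{u} ℤ
  haveI : IsAffineHom (Red.diag.{u} R ℤ).hom :=
    inferInstanceAs (IsAffineHom (Spec.map (CommRingCat.ofHom (algebraMap R (MonoidAlgebra R (Multiplicative ℤ))))))
  haveI : LocallyOfFiniteType (Red.diag.{u} R ℤ).hom := by
    show LocallyOfFiniteType (Spec.map (CommRingCat.ofHom (algebraMap R (MonoidAlgebra R (Multiplicative ℤ)))))
    rw [HasRingHomProperty.Spec_iff (P := @LocallyOfFiniteType)]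
    exact RingHom.finiteType_algebraMap.2 inferInstance
  have sq := IsPullback.of_hasPullback (Red.diag.{u} R ℤ).hom (IsTerminal.from specULiftZIsTerminal S)
  exact ⟨MorphismProperty.of_isPullback (P := @QuasiCompact) sq inferInstance,
    MorphismProperty.of_isPullback (P := @LocallyOfFiniteType) sq inferInstance⟩

variable {k : Type u} [Field k] {A : Over (Spec (CommRingCat.of k))} [GrpObj A] [IsProper A.hom]
  [GeometricallyIntegral A.hom] {L : A.left.Modules} {G : Over (Spec (CommRingCat.of k))} [GrpObj G]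
  {u : thetaPts A L G}

/-- A scheme representing the theta group is of finite type. -/
theorem finiteType_of_isThetaGrpSch (hL : PicF.IsInvertible L) (hG : ThetaGrp.IsThetaGrpSch A L G u) :
    LocallyOfFiniteType G.hom ∧ QuasiCompact G.hom := by
  haveI : Subsingleton (Spec (CommRingCat.of k)) := inferInstanceAs (Subsingleton (PrimeSpectrum k))
  haveI : Nonempty (Spec (CommRingCat.of k)) := inferInstanceAs (Nonempty (PrimeSpectrum k))
  have h0 : ∀ T, H0 A T := fun T => h0_of_geometricallyIntegral A T
  let Gm := Red.Gm (Spec (CommRingCat.of k))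
  haveI : QuasiCompact Gm.hom := (gm_finiteType _).1
  haveI : LocallyOfFiniteType Gm.hom := (gm_finiteType _).2
  obtain ⟨K, i, hK⟩ := exists_isKL A L hL
  haveI := hK.closed
  haveI : Mono i := (Over.forget _).mono_of_mono_map (inferInstanceAs (Mono i.left))
  choose U hpU α hα using fun p : K.left => exists_local_lift hL ((hK.univ K i).2 ⟨𝟙 K, Category.id_comp i⟩) p
  obtain ⟨π, hπ⟩ := exists_isOverPt u
  obtain ⟨y, hy⟩ := (hK.univ G π).1 (mumford_of_local_lift hL (h0_app_of_geometricallyIntegral A G)
    fun t => ⟨⊤, trivial, bc (restrι G ⊤) u, isOverPt_bc _ hπ⟩)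
  have key : ∀ p, QuasiCompact (y.left ∣_ U p) ∧ LocallyOfFiniteType (y.left ∣_ U p) := by
    intro p
    let V := y.left ⁻¹ᵁ U p
    let l : restr G V ⟶ restr K (U p) := Over.homMk (y.left ∣_ U p) (by
      show _ ≫ (U p).ι ≫ K.hom = V.ι ≫ G.hom
      rw [morphismRestrict_ι_assoc, Over.w y])
    have hl : l ≫ restrι K (U p) = restrι G V ≫ y := Over.OverMorphism.ext (morphismRestrict_ι _ _)
    have hlover : IsOverPt (bc l (α p)) (restrι G V ≫ π) := by
      rw [← hy, ← Category.assoc, ← hl, Category.assoc]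
      exact isOverPt_bc l (hα p)
    obtain ⟨c, hc⟩ := exists_unit_of_isOverPt hL (h0 _) hlover (isOverPt_bc (restrι G V) hπ)
    let Ψ : restr G V ⟶ restr K (U p) ⊗ Gm := lift l (GmPts.ptOfUnit c)
    let Z := restr K (U p) ⊗ Gm
    let e : thetaPts A L Z := unitPt Z (GmPts.unitOfPt (snd (restr K (U p)) Gm)) * bc (fst _ _) (α p)
    have hmove : ∀ {T : Over (Spec (CommRingCat.of k))} (z : T ⟶ Z),
        bc z e = unitPt T (GmPts.unitOfPt (z ≫ snd _ _)) * bc (z ≫ fst _ _) (α p) := by
      intro T z
      show bc z (unitPt Z _ * bc _ (α p)) = _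
      rw [bc_mul, bc_unitPt, bc_bc, GmPts.unitOfPt_comp]
    obtain ⟨g, hg, hguniq⟩ := hG.univ Z e
    have heover : IsOverPt e ((fst _ _ ≫ restrι K (U p)) ≫ i) := by
      rw [Category.assoc]
      simpa using isOverPt_mul (isOverPt_unitPt Z _) (isOverPt_bc (fst (restr K (U p)) Gm) (hα p))
    have hgy : g ≫ y = fst _ _ ≫ restrι K (U p) := by
      rw [← cancel_mono i, Category.assoc, hy]
      exact isOverPt_unique (bc_isOverPt hg hπ) heover
    have hgV : Set.range g.left ⊆ Set.range V.ι := by
      rintro _ ⟨w, rfl⟩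
      rw [Scheme.Opens.range_ι]
      show y.left (g.left w) ∈ U p
      rw [← Scheme.Hom.comp_apply, ← Over.comp_left, hgy]
      exact ((fst (restr K (U p)) Gm).left w).2
    let g' : Z ⟶ restr G V := Over.homMk (IsOpenImmersion.lift V.ι g.left hgV) (by
      show IsOpenImmersion.lift V.ι g.left hgV ≫ V.ι ≫ G.hom = _
      rw [IsOpenImmersion.lift_fac_assoc]
      exact Over.w g)
    have hg' : g' ≫ restrι G V = g := Over.OverMorphism.ext (IsOpenImmersion.lift_fac _ _ _)
    haveI : Mono (restrι G V) := (Over.forget _).mono_of_mono_map (inferInstanceAs (Mono V.ι))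
    have h1 : Ψ ≫ g' = 𝟙 _ := by
      rw [← cancel_mono (restrι G V), Category.assoc, hg', Category.id_comp]
      refine (hG.univ _ (bc (restrι G V) u)).unique ?_ (isBaseChange_bc _ u)
      have e1 : bc (restrι G V) u = bc (Ψ ≫ g) u := by
        rw [← bc_bc, bc_eq hg, hmove]
        simp only [Ψ, lift_fst]
        erw [lift_snd, GmPts.unitOfPt_ptOfUnit]
        exact hc
      rw [e1]
      exact isBaseChange_bc _ u
    have h2 : g' ≫ Ψ = 𝟙 _ := by
      have hl' : g' ≫ l = fst _ _ := by
        haveI : Mono (restrι K (U p)) := (Over.forget _).mono_of_mono_map (inferInstanceAs (Mono (U p).ι))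
        rw [← cancel_mono (restrι K (U p)), Category.assoc, hl, reassoc_of% hg', hgy]
      apply CartesianMonoidalCategory.hom_ext
      · simp [Ψ, hl']
      · simp only [Category.assoc, Ψ, lift_snd, Category.id_comp]
        have h4 := congrArg (bc g') hc
        rw [bc_mul, bc_bc, bc_bc, bc_unitPt, hg', bc_eq hg, hl', ← GmPts.unitOfPt_ptOfUnit (S := Spec (CommRingCat.of k)) c,
          ← GmPts.unitOfPt_comp] at h4
        have h5 := congrArg GmPts.ptOfUnit (unitPt_injective hL (h0 Z) (mul_right_cancel h4))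
        rw [GmPts.ptOfUnit_unitOfPt, GmPts.ptOfUnit_unitOfPt] at h5
        exact h5.symm
    let φ : restr G V ≅ Z := ⟨Ψ, g', h1, h2⟩
    have hlΨ : Ψ ≫ fst _ _ = l := lift_fst _ _
    have hfac : y.left ∣_ U p = φ.hom.left ≫ (fst (restr K (U p)) Gm).left := by
      rw [← Over.comp_left, hlΨ]
      rfl
    haveI : IsIso φ.hom.left := inferInstanceAs (IsIso ((Over.forget _).mapIso φ).hom)
    haveI : QuasiCompact (fst (restr K (U p)) Gm).left :=
      inferInstanceAs (QuasiCompact (pullback.fst ((U p).ι ≫ K.hom) Gm.hom))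
    haveI : LocallyOfFiniteType (fst (restr K (U p)) Gm).left :=
      inferInstanceAs (LocallyOfFiniteType (pullback.fst ((U p).ι ≫ K.hom) Gm.hom))
    rw [hfac]
    exact ⟨inferInstance, inferInstance⟩
  have hcov : ⨆ p, U p = ⊤ := top_le_iff.1 fun w _ => Opens.mem_iSup.2 ⟨w, hpU w⟩
  haveI : QuasiCompact y.left := (IsZariskiLocalAtTarget.iff_of_iSup_eq_top (P := @QuasiCompact) U hcov).2
    fun p => (key p).1
  haveI : LocallyOfFiniteType y.left :=
    (IsZariskiLocalAtTarget.iff_of_iSup_eq_top (P := @LocallyOfFiniteType) U hcov).2 fun p => (key p).2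
  haveI : LocallyOfFiniteType K.hom := by rw [← Over.w i]; infer_instance
  haveI : QuasiCompact K.hom := by rw [← Over.w i]; infer_instance
  rw [← Over.w y]
  exact ⟨inferInstance, inferInstance⟩

end Groth.Agent.ThetaH3
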