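import Groth.Agent.ThetaH3.KerLift

/-!
# Normalised lifts for the Mumford bundle
-/

universe u

open CategoryTheory CategoryTheory.Limits MonoidalCategory CartesianMonoidalCategory MonObj AlgebraicGeometry

noncomputable section

namespace Groth.Agent.ThetaH3

open ThetaGrp (thetaObj thetaPts transl IsOverPt bcLift IsBaseChange)
open Groth.Agent.H23
open scoped Groth.Agent.H23.PicMul

variable {S : Scheme.{u}}

/-- A natural multiplicative family of points gives a homomorphism to the theta group. -/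
theorem exists_hom_of_family {A : Over S} [GrpObj A] {L : A.left.Modules} {K : Over S} [GrpObj K]
    {G : Over S} [GrpObj G] {u : thetaPts A L G} (hG : ThetaGrp.IsThetaGrpSch A L G u)
    (F : ∀ {T : Over S}, (T ⟶ K) → thetaPts A L T)
    (hnat : ∀ {T T' : Over S} (g : T' ⟶ T) (y : T ⟶ K), bc g (F y) = F (g ≫ y))
    (hmul : ∀ {T : Over S} (y y' : T ⟶ K), F (y * y') = F y * F y') :
    ∃ j : K ⟶ G, IsMonHom j ∧ ∀ {T : Over S} (y : T ⟶ K), bc (y ≫ j) u = F y := by
  obtain ⟨j, hj, -⟩ := hG.univ K (F (𝟙 K))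
  have key : ∀ {T : Over S} (y : T ⟶ K), bc (y ≫ j) u = F y := fun y => by
    rw [← bc_bc, bc_eq hj, hnat, Category.comp_id]
  have hm : ∀ {T : Over S} (n m : T ⟶ K), (n * m) ≫ j = (n ≫ j) * (m ≫ j) := fun {T} n m => by
    obtain ⟨g, -, hg⟩ := hG.univ T (F (n * m))
    rw [hg ((n * m) ≫ j) (key (n * m) ▸ isBaseChange_bc _ u)]
    refine (hg _ ?_).symm
    have h := hG.mul T (n ≫ j) (m ≫ j) _ _ (key n ▸ isBaseChange_bc _ u) (key m ▸ isBaseChange_bc _ u)
    rwa [← hmul] at h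
  have hone : ∀ T : Over S, (1 : T ⟶ K) ≫ j = 1 := fun T => by
    have h := hm (1 : T ⟶ K) 1
    rw [_root_.one_mul] at h
    exact right_eq_mul.1 h
  refine ⟨j, {
    one_hom := by
      have h := hone (𝟙_ (Over S))
      simpa [Hom.one_def] using h
    mul_hom := by
      have h := hm (fst K K) (snd K K)
      rw [Hom.mul_def, lift_fst_snd, Category.id_comp, Hom.mul_def] at h
      refine h.trans (congrArg (· ≫ μ) ?_)
      apply CartesianMonoidalCategory.hom_ext <;> simp }, key⟩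

variable {A : Over S} [GrpObj A] [IsCommMonObj A] {L : A.left.Modules}

/-- The slice `a ↦ (a, 1)`. -/
abbrev slice (A : Over S) [GrpObj A] : A ⟶ A ⊗ A := lift (𝟙 A) 1

theorem tensor_one_mu : tensorHom (1 : A ⟶ A) (1 : A ⟶ A) ≫ μ[A] = 1 := by
  rw [show tensorHom (1 : A ⟶ A) (1 : A ⟶ A) = lift (1 : A ⊗ A ⟶ A) 1 by
      apply CartesianMonoidalCategory.hom_ext <;> simp [MonObj.comp_one],
      ← Hom.mul_def, _root_.mul_one]

instance isMonHom_slice : IsMonHom (slice A) where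
  one_hom := by
    apply CartesianMonoidalCategory.hom_ext <;> simp [slice, MonObj.comp_one, Hom.one_def]
  mul_hom := by
    apply CartesianMonoidalCategory.hom_ext
    · simp [slice]
    · simp [slice, MonObj.comp_one]
      exact tensor_one_mu.symm

instance isMonHom_one : IsMonHom (1 : A ⟶ A) where
  one_hom := by rw [MonObj.comp_one, Hom.one_def, toUnit_unique (toUnit _) (𝟙 _), Category.id_comp]
  mul_hom := by rw [MonObj.comp_one, tensor_one_mu]

theorem isInvertibleCl_pull {X Y : Scheme.{u}} (g : X ⟶ Y) {M : Y.Modules} (hM : PicF.IsInvertible M) :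
    IsUnit (PicF.pullCl g (PicF.cl M)) :=
  PicMul.isUnit_of_isInvertibleCl (PicClLib.isInvertibleCl_pullCl g ⟨M, rfl, hM⟩)

variable {Λ : (A ⊗ A).left.Modules}

omit [IsCommMonObj A] in
theorem pull_slice [Subsingleton S] [Nonempty S] (hL : PicF.IsInvertible L)
    (hΛ : AgPol.IsLambdaSheaf μ[A].left (fst A A).left (snd A A).left L Λ) :
    PicF.pullCl (slice A).left (PicF.cl Λ) = 1 := by
  have h := congrArg (PicF.pullCl (slice A).left) ((PicGrp.cl_eq_cl_iff _ _).2 hΛ)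
  rw [PicMul.cl_tensor, PicMul.cl_tensor] at h
  change PicF.pullCl _ (PicF.cl Λ * PicF.pullCl (fst A A).left (PicF.cl L) *
    PicF.pullCl (snd A A).left (PicF.cl L)) = PicF.pullCl _ (PicF.pullCl μ[A].left (PicF.cl L)) at h
  rw [PicMul.pullCl_mul, PicMul.pullCl_mul, PicClLib.pullCl_comp, PicClLib.pullCl_comp, PicClLib.pullCl_comp,
    ← Over.comp_left, ← Over.comp_left, ← Over.comp_left, lift_fst, lift_snd, KLBasic.pull_one hL,
    _root_.mul_one, ← Hom.mul_def, _root_.mul_one, Over.id_left, PicClLib.pullCl_id] at h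
  exact (PicMul.isUnit_cl hL).mul_eq_right.1 h

/-- The translation by `(x, 1)` fixes the Mumford bundle when `x` lies in `K(L)`. -/
theorem eq_slice (hL : PicF.IsInvertible L)
    (hΛ : AgPol.IsLambdaSheaf μ[A].left (fst A A).left (snd A A).left L Λ)
    {T : Over S} {x : T ⟶ A} {c : PicF.Cl T.left} (hc : PicF.IsInvertibleCl c) (hx : KLBasic.Eq L T x c) :
    KLBasic.Eq Λ T (x ≫ slice A) 1 := by
  have hΛ' := (PicGrp.cl_eq_cl_iff _ _).2 hΛ
  rw [PicMul.cl_tensor, PicMul.cl_tensor] at hΛ'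
  change PicF.cl Λ * PicF.pullCl (fst A A).left (PicF.cl L) * PicF.pullCl (snd A A).left (PicF.cl L) =
    PicF.pullCl μ[A].left (PicF.cl L) at hΛ'
  let P := (A ⊗ A) ⊗ T
  let a : P ⟶ A := fst _ _ ≫ fst A A
  let b : P ⟶ A := fst _ _ ≫ snd A A
  let z : P ⟶ A := snd _ _ ≫ x
  let t := transl (A ⊗ A) (x ≫ slice A) ≫ fst (A ⊗ A) T
  have e1 : t ≫ fst A A = a * z := by
    simp [t, a, z, slice, MonObj.mul_comp, lift_fst]
  have e2 : t ≫ snd A A = b := by
    simp [t, b, slice, MonObj.mul_comp, lift_snd, MonObj.comp_one]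
  have e3 : t ≫ μ[A] = a * b * z := by
    rw [show t = lift (t ≫ fst A A) (t ≫ snd A A) by apply CartesianMonoidalCategory.hom_ext <;> simp,
      ← Hom.mul_def, e1, e2, mul_right_comm]
  have e4 : fst (A ⊗ A) T ≫ μ[A] = a * b := by
    rw [Hom.mul_def]
    congr 1
    apply CartesianMonoidalCategory.hom_ext <;> simp [a, b]
  have eq_at : ∀ p : P ⟶ A, PicF.pullCl (p * z).left (PicF.cl L) =
      PicF.pullCl p.left (PicF.cl L) * PicF.pullCl (snd (A ⊗ A) T).left c := by
    intro p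
    have h := congrArg (PicF.pullCl (lift p (snd (A ⊗ A) T)).left) hx
    rw [PicMul.pullCl_mul, PicClLib.pullCl_comp, PicClLib.pullCl_comp, PicClLib.pullCl_comp, ← Over.comp_left,
      ← Over.comp_left, ← Over.comp_left, lift_fst, lift_snd, ThetaGrp.transl_fst, MonObj.comp_mul, lift_fst,
      lift_snd_assoc] at h
    exact h
  have h1 := congrArg (PicF.pullCl t.left) hΛ'
  have h2 := congrArg (PicF.pullCl (fst (A ⊗ A) T).left) hΛ'
  simp only [PicMul.pullCl_mul, PicClLib.pullCl_comp, ← Over.comp_left] at h1 h2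
  rw [e1, e2, e3, eq_at, eq_at, ← e4] at h1
  rw [← h2] at h1
  rw [KLBasic.Eq, PicMul.pullCl_one, _root_.mul_one]
  have hu : IsUnit (PicF.pullCl (fst (A ⊗ A) T ≫ fst A A).left (PicF.cl L) * PicF.pullCl (snd (A ⊗ A) T).left c *
      PicF.pullCl (fst (A ⊗ A) T ≫ snd A A).left (PicF.cl L)) :=
    ((isInvertibleCl_pull _ hL).mul (PicMul.isUnit_of_isInvertibleCl (PicClLib.isInvertibleCl_pullCl _ hc))).mul
      (isInvertibleCl_pull _ hL)
  refine hu.mul_left_inj.1 ?_
  dsimp only [a, b, t] at h1 ⊢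
  refine Eq.trans ?_ (h1.trans ?_) <;> ac_rfl

variable [Subsingleton S] [Nonempty S] (hL : PicF.IsInvertible L) (hΛi : PicF.IsInvertible Λ)
  (hΛ : AgPol.IsLambdaSheaf μ[A].left (fst A A).left (snd A A).left L Λ) (hA : ∀ T : Over S, H0 A T)
  (hAA : ∀ T : Over S, H0 (A ⊗ A) T)

/-- The restriction of the Mumford bundle to the slice, as a datum. -/
def sliceDatum (Λ : (A ⊗ A).left.Modules) :
    Datum (slice A) ((Scheme.Modules.pullback (slice A).left).obj Λ) Λ :=
  Datum.ofIso (slice A) (Iso.refl _)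

include hL hΛ in
theorem nonempty_triv :
    Nonempty ((Scheme.Modules.pullback (1 : A ⟶ A).left).obj (Coh.structureModule A.left) ≅
      (Scheme.Modules.pullback (slice A).left).obj Λ) :=
  (PicGrp.cl_eq_cl_iff _ _).1 (((PicMul.pullCl_one _).trans (pull_slice hL hΛ).symm : _))

/-- The trivialisation on the slice. -/
def trivDatum : Datum (1 : A ⟶ A) ((Scheme.Modules.pullback (slice A).left).obj Λ) (Coh.structureModule A.left) :=
  Datum.ofIso 1 (nonempty_triv hL hΛ).some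

/-- Normalised points over `(x, 1)`. -/
def IsNorm {T : Over S} (x : T ⟶ A) (β : thetaPts (A ⊗ A) Λ T) : Prop :=
  IsOverPt β (x ≫ slice A) ∧ Rel (sliceDatum Λ) (can (trivDatum hL hΛ) x (MonObj.comp_one x)) β

include hΛi hA hAA in
theorem existsUnique_norm {T : Over S} {x : T ⟶ A} (hx : ThetaGrp.IsMumfordTriv A L x) :
    ∃! β : thetaPts (A ⊗ A) Λ T, IsNorm hL hΛ x β := by
  have hL' := PicClLib.isInvertible_pullback (slice A).left hΛi
  obtain ⟨c₀, hc₀, he⟩ := (KLBasic.mumford_iff hL x).1 hx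
  obtain ⟨β₀, hβ₀⟩ := (exists_point_iff _).2 (eq_slice hL hΛ hc₀ he)
  obtain ⟨α₀, ⟨hα₀, hr₀⟩, -⟩ := existsUnique_rel (sliceDatum Λ) x β₀ hβ₀
  obtain ⟨c, hc⟩ := exists_unit_of_isOverPt hL' (hA T) hα₀ (isOverPt_can (trivDatum hL hΛ) x (MonObj.comp_one x))
  have ho : ∀ d, IsOverPt (unitPt T d * β₀) (x ≫ slice A) := fun d => by
    simpa using isOverPt_mul (isOverPt_unitPt (A := A ⊗ A) (L := Λ) T d) hβ₀
  refine ⟨unitPt T c * β₀, ⟨ho c, hc ▸ rel_mul _ (rel_unitPt _ T c) hr₀⟩, fun β ⟨hβ, hr⟩ => ?_⟩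
  obtain ⟨d, rfl⟩ := exists_unit_of_isOverPt hΛi (hAA T) hβ₀ hβ
  have e := rel_unique (sliceDatum Λ) (isOverPt_can _ _ _) hr
    (by simpa using isOverPt_mul (isOverPt_unitPt (A := A) (L := (Scheme.Modules.pullback (slice A).left).obj Λ) T d) hα₀)
    (rel_mul _ (rel_unitPt _ T d) hr₀)
  rw [hc, mul_left_inj] at e
  rw [unitPt_injective hL' (hA T) e]

include hL hΛ hΛi hA hAA in
theorem exists_hom {K : Over S} [GrpObj K] {iK : K ⟶ A} [IsMonHom iK]
    (hK : ∀ {T : Over S} (y : T ⟶ K), ThetaGrp.IsMumfordTriv A L (y ≫ iK))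
    {G : Over S} [GrpObj G] (u : thetaPts (A ⊗ A) Λ G) (hG : ThetaGrp.IsThetaGrpSch (A ⊗ A) Λ G u) :
    ∃ j : K ⟶ G, IsMonHom j ∧ ∀ (T : Over S) (y : T ⟶ K) (β : thetaPts (A ⊗ A) Λ T),
      IsBaseChange β (y ≫ j) u → IsOverPt β (y ≫ lift iK (1 : K ⟶ A)) := by
  let F : ∀ {T : Over S}, (T ⟶ K) → thetaPts (A ⊗ A) Λ T := fun y =>
    (existsUnique_norm hL hΛi hΛ hA hAA (hK y)).choose
  have hF : ∀ {T : Over S} (y : T ⟶ K), IsNorm hL hΛ (y ≫ iK) (F y) := fun y =>
    (existsUnique_norm hL hΛi hΛ hA hAA (hK y)).choose_spec.1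
  have huniq : ∀ {T : Over S} (y : T ⟶ K) β, IsNorm hL hΛ (y ≫ iK) β → F y = β := fun y β h =>
    (existsUnique_norm hL hΛi hΛ hA hAA (hK y)).unique (hF y) h
  have hnat : ∀ {T T' : Over S} (g : T' ⟶ T) (y : T ⟶ K), bc g (F y) = F (g ≫ y) := fun {T T'} g y => by
    refine (huniq _ _ ⟨?_, ?_⟩).symm
    · simpa only [Category.assoc] using isOverPt_bc g (hF y).1
    · have h := rel_bc (sliceDatum Λ) g (hF y).2
      rw [bc_can] at h
      simpa only [Category.assoc] using h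
  have hmul : ∀ {T : Over S} (y y' : T ⟶ K), F (y * y') = F y * F y' := fun {T} y y' => by
    refine huniq _ _ ⟨?_, ?_⟩
    · have h := isOverPt_mul (hF y).1 (hF y').1
      rwa [← MonObj.mul_comp, mul_comm (y' ≫ iK) (y ≫ iK), ← MonObj.mul_comp] at h
    · have h := rel_mul _ (hF y).2 (hF y').2
      rw [can_mul] at h
      simpa only [MonObj.mul_comp] using h
  obtain ⟨j, hj, key⟩ := exists_hom_of_family hG F hnat hmul
  refine ⟨j, hj, fun T y β hβ => ?_⟩
  rw [← bc_eq hβ, key]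
  have h := (hF y).1
  rwa [Category.assoc, show iK ≫ slice A = lift iK (1 : K ⟶ A) by
    apply CartesianMonoidalCategory.hom_ext <;> simp [slice, MonObj.comp_one]] at h

end Groth.Agent.ThetaH3
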