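import Groth.Agent.InvX.Frame
import Groth.Agent.InvX.Tensor
import Groth.Prelude.Def_Formal

/-!
# Endomorphisms of invertible modules are functions
-/

universe u

open CategoryTheory AlgebraicGeometry TopologicalSpace Opposite

namespace Groth.Agent.ThetaH3

open Groth.Agent.InvX Groth.Agent.AModX

variable {X : Scheme.{u}} {L : X.Modules}

theorem smulModΓ_app (r : Γ(X, ⊤)) {V : X.Opens} (m : Γ(L, V)) :
    (Formal.smulModΓ L r).app V m = resR (le_top (a := V)) r • m := rfl

theorem exists_eq_smulModΓ (hL : PicF.IsInvertible L) (φ : L ⟶ L) : ∃ r : Γ(X, ⊤), φ = Formal.smulModΓ L r := by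
  choose U hx e he using InvX.exists_frame hL
  have hc : ∀ a, ∃ c : Γ(X, U a), φ.app (U a) (e a) = c • e a := fun a => by
    obtain ⟨c, hc⟩ := (he a).exists_coord le_rfl (φ.app (U a) (e a))
    exact ⟨c, by rw [hc, res_self]⟩
  choose c hc using hc
  have hcompat : TopCat.Presheaf.IsCompatible X.sheaf.1 U c := fun a b => by
    show resR (inf_le_left : U a ⊓ U b ≤ U a) (c a) = resR (inf_le_right : U a ⊓ U b ≤ U b) (c b)
    let W := U a ⊓ U b
    obtain ⟨k, hk⟩ := (he a).exists_coord (inf_le_left : W ≤ U a) (res L (inf_le_right : W ≤ U b) (e b))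
    have ha : φ.app W (res L (inf_le_left : W ≤ U a) (e a)) = resR (inf_le_left : W ≤ U a) (c a) • res L (inf_le_left : W ≤ U a) (e a) := by
      rw [app_res, hc, res_smul]
    have hb : φ.app W (res L (inf_le_right : W ≤ U b) (e b)) = resR (inf_le_right : W ≤ U b) (c b) • res L (inf_le_right : W ≤ U b) (e b) := by
      rw [app_res, hc, res_smul]
    have h2 := hb
    rw [hk, Scheme.Modules.Hom.app_smul, ha, smul_comm, ← hk] at h2
    exact (he b).coord_unique _ h2
  obtain ⟨r, hr, -⟩ := X.sheaf.existsUnique_gluing' U ⊤ (fun a => homOfLE le_top)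
    (fun x _ => Opens.mem_iSup.2 ⟨x, hx x⟩) c hcompat
  refine ⟨r, hom_ext_of_frames U (fun x => ⟨x, hx x⟩) e he fun a => ?_⟩
  rw [hc, smulModΓ_app]
  exact congrArg (· • e a) (hr a).symm

theorem smulModΓ_injective (hL : PicF.IsInvertible L) {r s : Γ(X, ⊤)}
    (h : Formal.smulModΓ L r = Formal.smulModΓ L s) : r = s := by
  choose U hx e he using InvX.exists_frame hL
  refine X.sheaf.eq_of_locally_eq' U ⊤ (fun a => homOfLE le_top) (fun x _ => Opens.mem_iSup.2 ⟨x, hx x⟩) r s
    fun a => ?_
  show resR le_top r = resR le_top s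
  refine (he a).coord_unique le_rfl ?_
  rw [res_self]
  exact congrArg (fun f : L ⟶ L => f.app (U a) (e a)) h

end Groth.Agent.ThetaH3
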