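import Groth.Agent.ThetaH3.Mor
import Groth.Agent.ThetaH3.EndInv
import Groth.Agent.H23.KLBasic
import Groth.Agent.H23.Rigid

/-!
# Points of the theta group: lifts, scalars and base change
-/

universe u

open CategoryTheory CategoryTheory.Limits MonoidalCategory CartesianMonoidalCategory MonObj AlgebraicGeometry
open Pseudofunctor Bicategory
open scoped Groth.Agent.H23.PicMul

noncomputable section

namespace Groth.Agent.ThetaH3

open ThetaGrp (thetaObj thetaPts transl IsOverPt bcLift IsBaseChange)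

variable {S : Scheme.{u}} {A : Over S} [GrpObj A] {L : A.left.Modules}

theorem transl_injective {T : Over S} {x y : T ⟶ A} (h : transl A x = transl A y) : x = y := by
  have h' := congrArg (fun f => lift (1 : T ⟶ A) (𝟙 T) ≫ f ≫ fst A T) h
  simp only [ThetaGrp.transl_fst, MonObj.comp_mul, lift_fst, lift_snd_assoc, Category.id_comp, _root_.one_mul] at h'
  exact h'

theorem isOverPt_unique {T : Over S} {α : thetaPts A L T} {x y : T ⟶ A} (hx : IsOverPt α x) (hy : IsOverPt α y) :
    x = y :=
  transl_injective (Over.OverMorphism.ext (hx.symm.trans hy))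

theorem exists_isOverPt {T : Over S} (α : thetaPts A L T) : ∃ x : T ⟶ A, IsOverPt α x := α.2

theorem isOverPt_one {T : Over S} : IsOverPt (1 : thetaPts A L T) 1 := by
  show 𝟙 _ = _
  rw [ThetaGrp.transl_one]
  rfl

theorem isOverPt_mul {T : Over S} {α β : thetaPts A L T} {x y : T ⟶ A} (hx : IsOverPt α x) (hy : IsOverPt β y) :
    IsOverPt (α * β) (y * x) := by
  show (β.1.hom ≫ α.1.hom).base = _
  rw [ThetaGrp.transl_mul, Over.comp_left, ← hy, ← hx]
  rfl

theorem isOverPt_inv {T : Over S} {α : thetaPts A L T} {x : T ⟶ A} (hx : IsOverPt α x) : IsOverPt α⁻¹ x⁻¹ := by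
  obtain ⟨y, hy⟩ := exists_isOverPt α⁻¹
  have h := isOverPt_mul hx hy
  rw [mul_inv_cancel] at h
  have h1 := isOverPt_unique h isOverPt_one
  rwa [eq_inv_of_mul_eq_one_left h1] at hy

theorem ext_hom {T : Over S} {α β : thetaPts A L T} (h : α.1.hom = β.1.hom) : α = β :=
  Subtype.ext (Iso.ext h)

theorem isIso_transl {T : Over S} (x : T ⟶ A) : IsIso (transl A x).left :=
  ⟨(transl A x⁻¹).left, by rw [← Over.comp_left, ← ThetaGrp.transl_mul, mul_inv_cancel, ThetaGrp.transl_one]; rfl,
    by rw [← Over.comp_left, ← ThetaGrp.transl_mul, inv_mul_cancel, ThetaGrp.transl_one]; rfl⟩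

/-- An isomorphism `L_T ≅ t_x^* L_T` gives a point of the theta group over `x`. -/
theorem exists_point_of_iso {T : Over S} (x : T ⟶ A)
    (θ : (Scheme.Modules.pullback (fst A T).left).obj L ≅
      (Scheme.Modules.pullback (transl A x).left).obj ((Scheme.Modules.pullback (fst A T).left).obj L)) :
    ∃ α : thetaPts A L T, IsOverPt α x := by
  let f : thetaObj A L T ⟶ thetaObj A L T := ⟨(transl A x).left, θ.hom⟩
  haveI : IsIso f.base := isIso_transl x
  haveI : IsIso f.fiber := inferInstanceAs (IsIso θ.hom)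
  haveI := isIso_of_isIso f
  exact ⟨⟨asIso f, x, rfl⟩, rfl⟩

theorem iso_of_point {T : Over S} {x : T ⟶ A} (α : thetaPts A L T) (h : IsOverPt α x) :
    Nonempty ((Scheme.Modules.pullback (fst A T).left).obj L ≅
      (Scheme.Modules.pullback (transl A x).left).obj ((Scheme.Modules.pullback (fst A T).left).obj L)) := by
  let e := @asIso _ _ _ _ α.1.hom.fiber (isIso_fiber α.1.hom)
  exact ⟨e ≪≫ (Scheme.Modules.pullbackCongr h).app _⟩

/-- Lifts over a point exist exactly when the translate of the module is isomorphic to it. -/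
theorem exists_point_iff {T : Over S} (x : T ⟶ A) :
    (∃ α : thetaPts A L T, IsOverPt α x) ↔ H23.KLBasic.Eq L T x 1 := by
  have e1 : H23.KLBasic.Eq L T x 1 ↔ Nonempty ((Scheme.Modules.pullback (fst A T).left).obj L ≅
      (Scheme.Modules.pullback (transl A x).left).obj ((Scheme.Modules.pullback (fst A T).left).obj L)) := by
    rw [← PicGrp.cl_eq_cl_iff, H23.KLBasic.Eq, H23.PicMul.pullCl_one, _root_.mul_one, Over.comp_left,
      ← PicClLib.pullCl_comp]
    exact eq_comm
  rw [e1]
  exact ⟨fun ⟨α, h⟩ => iso_of_point α h, fun ⟨θ⟩ => exists_point_of_iso x θ⟩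

/-- The functions on `T` are all functions on `A ×_S T`. -/
def H0 (A : Over S) (T : Over S) : Prop := Function.Bijective (snd A T).left.appTop

/-- The unit of the theta group given by a function on the base. -/
def unitPt (T : Over S) (c : Γ(T.left, ⊤)ˣ) : thetaPts A L T :=
  ⟨{  hom := scal _ ((snd A T).left.appTop (c : Γ(T.left, ⊤)))
      inv := scal _ ((snd A T).left.appTop (↑c⁻¹ : Γ(T.left, ⊤)))
      hom_inv_id := by
        refine (scal_mul _ _ _).symm.trans ?_
        rw [← map_mul, Units.inv_mul, map_one]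
        exact scal_one _
      inv_hom_id := by
        refine (scal_mul _ _ _).symm.trans ?_
        rw [← map_mul, Units.mul_inv, map_one]
        exact scal_one _ }, 1, by rw [ThetaGrp.transl_one]; rfl⟩

theorem unitPt_hom (T : Over S) (c : Γ(T.left, ⊤)ˣ) :
    (unitPt (A := A) (L := L) T c).1.hom = scal _ ((snd A T).left.appTop (c : Γ(T.left, ⊤))) := rfl

theorem isOverPt_unitPt (T : Over S) (c : Γ(T.left, ⊤)ˣ) : IsOverPt (unitPt (A := A) (L := L) T c) 1 := by
  show 𝟙 _ = _
  rw [ThetaGrp.transl_one]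
  rfl

theorem unitPt_comm (T : Over S) (c : Γ(T.left, ⊤)ˣ) (α : thetaPts A L T) :
    unitPt T c * α = α * unitPt T c := by
  obtain ⟨x, hx⟩ := exists_isOverPt α
  refine ext_hom ?_
  show α.1.hom ≫ scal _ _ = scal _ _ ≫ α.1.hom
  refine (comp_scal _ _).trans ?_
  rw [show α.1.hom.base = (transl A x).left from hx, ← CommRingCat.comp_apply, ← Scheme.Hom.comp_appTop,
    ← Over.comp_left, ThetaGrp.transl_snd]

theorem unitPt_one (T : Over S) : unitPt (A := A) (L := L) T 1 = 1 := by
  refine ext_hom ?_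
  show scal _ _ = 𝟙 _
  rw [Units.val_one, map_one]
  exact scal_one _

theorem unitPt_mul (T : Over S) (c d : Γ(T.left, ⊤)ˣ) :
    unitPt (A := A) (L := L) T (c * d) = unitPt T c * unitPt T d := by
  refine ext_hom ?_
  show scal _ _ = scal _ _ ≫ scal _ _
  rw [Units.val_mul, map_mul]
  exact scal_mul _ _ _

theorem unitPt_injective (hL : PicF.IsInvertible L) {T : Over S} (h : H0 A T) :
    Function.Injective (unitPt (A := A) (L := L) T) := fun c d e => by
  have e' := vert_injective (congrArg (fun α : thetaPts A L T => α.1.hom) e)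
  exact Units.ext (h.1 (smulModΓ_injective (PicClLib.isInvertible_pullback _ hL) e'))

/-- Points over the identity translation are units. -/
theorem exists_eq_unitPt (hL : PicF.IsInvertible L) {T : Over S} (h : H0 A T) (α : thetaPts A L T)
    (hα : IsOverPt α 1) : ∃ c : Γ(T.left, ⊤)ˣ, α = unitPt T c := by
  have hb : ∀ β : thetaPts A L T, IsOverPt β 1 →
      ∃ r : Γ(T.left, ⊤), β.1.hom = scal _ ((snd A T).left.appTop r) := by
    intro β hβ
    obtain ⟨φ, hφ⟩ := exists_vert β.1.hom (by rw [show β.1.hom.base = _ from hβ, ThetaGrp.transl_one]; rfl)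
    obtain ⟨r₀, hr₀⟩ := exists_eq_smulModΓ (PicClLib.isInvertible_pullback _ hL) φ
    obtain ⟨r, rfl⟩ := h.2 r₀
    exact ⟨r, hφ.trans (congrArg (fun ψ => vert (F := ThetaGrp.modPF.{u}) ψ) hr₀)⟩
  obtain ⟨r, hr⟩ := hb α hα
  obtain ⟨s, hs⟩ := hb α⁻¹ (by simpa using isOverPt_inv hα)
  have h1 : r * s = 1 := by
    apply h.1
    rw [map_one, map_mul]
    refine smulModΓ_injective (PicClLib.isInvertible_pullback (fst A T).left hL)
      (vert_injective (F := ThetaGrp.modPF.{u}) ?_)
    refine (scal_mul (thetaObj A L T) _ _).trans ?_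
    rw [← hr, ← hs]
    exact (α.1.inv_hom_id).trans (scal_one (thetaObj A L T)).symm
  refine ⟨⟨r, s, h1, by rw [mul_comm, h1]⟩, ext_hom hr⟩

/-- Two points over the same translation differ by a unit. -/
theorem exists_unit_of_isOverPt (hL : PicF.IsInvertible L) {T : Over S} (h : H0 A T) {α β : thetaPts A L T}
    {x : T ⟶ A} (hα : IsOverPt α x) (hβ : IsOverPt β x) : ∃ c : Γ(T.left, ⊤)ˣ, β = unitPt T c * α := by
  obtain ⟨c, hc⟩ := exists_eq_unitPt hL h (β * α⁻¹) (by simpa using isOverPt_mul hβ (isOverPt_inv hα))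
  exact ⟨c, by rw [← hc, inv_mul_cancel_right]⟩

/-- The commutator of points over commuting translations is a unit. -/
theorem exists_commutator [IsCommMonObj A] (hL : PicF.IsInvertible L) {T : Over S} (h : H0 A T)
    (α β : thetaPts A L T) : ∃ c : Γ(T.left, ⊤)ˣ, α * β = unitPt T c * (β * α) := by
  obtain ⟨x, hx⟩ := exists_isOverPt α
  obtain ⟨y, hy⟩ := exists_isOverPt β
  refine exists_unit_of_isOverPt hL h (isOverPt_mul hy hx) ?_
  rw [mul_comm x y]
  exact isOverPt_mul hx hy

section BaseChange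

/-- The projection of `L_T` to `L`. -/
def proj (A : Over S) (L : A.left.Modules) (T : Over S) : thetaObj A L T ⟶ (⟨A.left, L⟩ : MP.{u}) :=
  ⟨(fst A T).left, 𝟙 _⟩

instance isIso_proj_fiber (T : Over S) : IsIso (proj A L T).fiber := inferInstanceAs (IsIso (𝟙 _))

instance isIso_bcLift_fiber {T G : Over S} (g : T ⟶ G) : IsIso (bcLift A L g).fiber := by
  exact @IsIso.comp_isIso _ _ _ _ _ _ _
    (inferInstanceAs (IsIso ((Scheme.Modules.pullbackCongr _).hom.app L)))
    (inferInstanceAs (IsIso ((Scheme.Modules.pullbackComp (A ◁ g).left (fst A G).left).inv.app L)))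

omit [GrpObj A] in
theorem bcLift_base {T G : Over S} (g : T ⟶ G) : (bcLift A L g).base = (A ◁ g).left := rfl

omit [GrpObj A] in
theorem mk_comp_proj {X Y Z : Scheme.{u}} (a : X ⟶ Y) (b : Y ⟶ Z) (c : X ⟶ Z) (h : c = a ≫ b) (M : Z.Modules) :
    @CategoryStruct.comp MP.{u} _ ⟨X, (Scheme.Modules.pullback c).obj M⟩ ⟨Y, (Scheme.Modules.pullback b).obj M⟩
      ⟨Z, M⟩
      (CoGrothendieck.Hom.mk a
        ((Scheme.Modules.pullbackCongr h).hom.app M ≫ (Scheme.Modules.pullbackComp a b).inv.app M))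
      (CoGrothendieck.Hom.mk b (𝟙 _)) = CoGrothendieck.Hom.mk c (𝟙 _) := by
  subst h
  refine CoGrothendieck.Hom.ext _ _ rfl ?_
  simp [Scheme.Modules.pullbackCongr]
  show 𝟙 _ ≫ (Scheme.Modules.pullbackComp a b).inv.app M ≫ (Scheme.Modules.pullback a).map (𝟙 _) ≫
    𝟙 _ ≫ (Scheme.Modules.pullbackComp a b).hom.app M = _
  erw [Category.id_comp, CategoryTheory.Functor.map_id, Category.id_comp, Category.id_comp, Iso.inv_hom_id_app]
  rfl

theorem bcLift_proj {T G : Over S} (g : T ⟶ G) : bcLift A L g ≫ proj A L G = proj A L T := by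
  delta ThetaGrp.bcLift proj
  exact mk_comp_proj (A ◁ g).left (fst A G).left (fst A T).left
    (by rw [← Over.comp_left, whiskerLeft_fst]) L

theorem bcLift_comp {T T' G : Over S} (t : T' ⟶ T) (g : T ⟶ G) :
    bcLift A L t ≫ bcLift A L g = bcLift A L (t ≫ g) := by
  refine hom_ext_lift (proj A L G) ?_ ?_
  · show (A ◁ t).left ≫ (A ◁ g).left = (A ◁ (t ≫ g)).left
    rw [← Over.comp_left, ← MonoidalCategory.whiskerLeft_comp]
  · rw [Category.assoc, bcLift_proj, bcLift_proj, bcLift_proj]

theorem bcLift_id (T : Over S) : bcLift A L (𝟙 T) = 𝟙 _ := by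
  refine hom_ext_lift (proj A L T) ?_ ?_
  · show (A ◁ 𝟙 T).left = 𝟙 _
    rw [MonoidalCategory.whiskerLeft_id]; rfl
  · rw [bcLift_proj, Category.id_comp]

theorem transl_whisker {T G : Over S} (g : T ⟶ G) (x : G ⟶ A) :
    transl A (g ≫ x) ≫ A ◁ g = A ◁ g ≫ transl A x := by
  apply CartesianMonoidalCategory.hom_ext
  · simp [transl, MonObj.comp_mul]
  · simp [transl]

theorem bc_isOverPt {T G : Over S} {g : T ⟶ G} {u : thetaPts A L G} {β : thetaPts A L T} {x : G ⟶ A}
    (hb : IsBaseChange β g u) (hu : IsOverPt u x) : IsOverPt β (g ≫ x) := by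
  obtain ⟨y, hy⟩ := exists_isOverPt β
  suffices h : y = g ≫ x by rwa [h] at hy
  have h := congrArg CoGrothendieck.Hom.base hb
  simp only [CoGrothendieck.categoryStruct_comp_base] at h
  rw [show β.1.hom.base = _ from hy, show u.1.hom.base = _ from hu, bcLift_base, ← Over.comp_left,
    ← Over.comp_left, ← transl_whisker] at h
  have h' := congrArg (fun f => lift (1 : T ⟶ A) (𝟙 T) ≫ f ≫ fst A G) (Over.OverMorphism.ext h)
  simp only [Category.assoc, whiskerLeft_fst, ThetaGrp.transl_fst, MonObj.comp_mul, lift_fst, lift_snd_assoc,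
    Category.id_comp, _root_.one_mul] at h'
  exact h'

theorem existsUnique_bc {T G : Over S} (g : T ⟶ G) (u : thetaPts A L G) :
    ∃! β : thetaPts A L T, IsBaseChange β g u := by
  obtain ⟨x, hx⟩ := exists_isOverPt u
  have hbase : (transl A (g ≫ x)).left ≫ (bcLift A L g).base = (bcLift A L g ≫ u.1.hom).base := by
    rw [CoGrothendieck.categoryStruct_comp_base, show u.1.hom.base = _ from hx, bcLift_base, ← Over.comp_left,
      ← Over.comp_left, transl_whisker]
  obtain ⟨χ, ⟨hχb, hχ⟩, -⟩ := existsUnique_lift (bcLift A L g) (bcLift A L g ≫ u.1.hom) _ hbase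
  haveI : IsIso χ.base := hχb ▸ isIso_transl (g ≫ x)
  haveI : IsIso χ := by
    haveI : IsIso u.1.hom := inferInstance
    obtain ⟨χ', ⟨hχ'b, hχ'⟩, -⟩ := existsUnique_lift (bcLift A L g) (bcLift A L g ≫ u.1.inv) (inv χ.base) (by
      have h := congrArg CoGrothendieck.Hom.base hχ
      have h2 := congrArg CoGrothendieck.Hom.base u.1.hom_inv_id
      simp only [CoGrothendieck.categoryStruct_comp_base, CoGrothendieck.categoryStruct_id_base] at h h2 ⊢
      rw [IsIso.inv_comp_eq, reassoc_of% h, h2, Category.comp_id])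
    exact ⟨χ', hom_ext_lift (bcLift A L g) (by simp [hχ'b]) (by
        rw [Category.assoc, hχ', reassoc_of% hχ, u.1.hom_inv_id, Category.comp_id, Category.id_comp]),
      hom_ext_lift (bcLift A L g) (by simp [hχ'b]) (by
        rw [Category.assoc, hχ, reassoc_of% hχ', u.1.inv_hom_id, Category.comp_id, Category.id_comp])⟩
  refine ⟨⟨asIso χ, g ≫ x, hχb⟩, hχ, fun β hβ => ext_hom ?_⟩
  refine hom_ext_lift (bcLift A L g) ?_ (hβ.trans hχ.symm)
  exact (bc_isOverPt hβ hx).trans hχb.symm

/-- The base change of a point of the theta group. -/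
def bc {T G : Over S} (g : T ⟶ G) (u : thetaPts A L G) : thetaPts A L T := (existsUnique_bc g u).choose

theorem isBaseChange_bc {T G : Over S} (g : T ⟶ G) (u : thetaPts A L G) : IsBaseChange (bc g u) g u :=
  (existsUnique_bc g u).choose_spec.1

theorem bc_eq {T G : Over S} {g : T ⟶ G} {u : thetaPts A L G} {β : thetaPts A L T} (h : IsBaseChange β g u) :
    bc g u = β :=
  (existsUnique_bc g u).unique (isBaseChange_bc g u) h

theorem isOverPt_bc {T G : Over S} (g : T ⟶ G) {u : thetaPts A L G} {x : G ⟶ A} (hu : IsOverPt u x) :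
    IsOverPt (bc g u) (g ≫ x) :=
  bc_isOverPt (isBaseChange_bc g u) hu

theorem bc_mul {T G : Over S} (g : T ⟶ G) (u v : thetaPts A L G) : bc g (u * v) = bc g u * bc g v := by
  refine bc_eq ?_
  show ((bc g v).1.hom ≫ (bc g u).1.hom) ≫ bcLift A L g = bcLift A L g ≫ v.1.hom ≫ u.1.hom
  rw [Category.assoc, isBaseChange_bc g u, ← Category.assoc, isBaseChange_bc g v, Category.assoc]

/-- Base change as a homomorphism. -/
def bcHom {T G : Over S} (g : T ⟶ G) : thetaPts A L G →* thetaPts A L T :=
  MonoidHom.mk' (bc g) (bc_mul g)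

theorem bc_bc {T T' G : Over S} (t : T' ⟶ T) (g : T ⟶ G) (u : thetaPts A L G) :
    bc t (bc g u) = bc (t ≫ g) u := by
  refine (bc_eq ?_).symm
  show (bc t (bc g u)).1.hom ≫ _ = _
  rw [← bcLift_comp, ← Category.assoc, isBaseChange_bc t (bc g u), Category.assoc, isBaseChange_bc g u,
    Category.assoc]

theorem bc_id {T : Over S} (u : thetaPts A L T) : bc (𝟙 T) u = u := by
  refine bc_eq ?_
  show u.1.hom ≫ _ = _
  rw [bcLift_id, Category.comp_id, Category.id_comp]

theorem bc_unitPt {T G : Over S} (g : T ⟶ G) (c : Γ(G.left, ⊤)ˣ) :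
    bc g (unitPt (A := A) (L := L) G c) = unitPt T (Units.map (g.left.appTop).hom.toMonoidHom c) := by
  refine bc_eq ?_
  show scal _ _ ≫ bcLift A L g = bcLift A L g ≫ scal _ _
  refine Eq.symm ((comp_scal _ _).trans ?_)
  rw [bcLift_base, ← CommRingCat.comp_apply, ← Scheme.Hom.comp_appTop, ← Over.comp_left, whiskerLeft_snd,
    Over.comp_left, Scheme.Hom.comp_appTop]
  rfl

end BaseChange

section Geometric

/-- Over a field a proper geometrically integral scheme adds no functions. -/
theorem h0_of_geometricallyIntegral {k : Type u} [Field k] (A T : Over (Spec (CommRingCat.of k))) [IsProper A.hom]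
    [GeometricallyIntegral A.hom] : H0 A T :=
  H23.Rigid.bijective_app_snd A.hom T.hom ⊤

end Geometric

end Groth.Agent.ThetaH3
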