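import Groth.Agent.ThetaH3.Sect

/-!
# fppf descent of morphisms of pairs between invertible modules
-/

universe u

open CategoryTheory CategoryTheory.Limits AlgebraicGeometry TopologicalSpace Opposite

noncomputable section

namespace Groth.Agent.ThetaH3

set_option backward.isDefEq.respectTransparency false

open Groth.Agent.InvX Groth.Agent.AModX

variable {P Q R : MP.{u}}

theorem resR_app {X Y : Scheme.{u}} (q : X ⟶ Y) {V W : Y.Opens} (h : W ≤ V) (c : Γ(Y, V)) :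
    resR (q.preimage_mono h) (q.app V c) = q.app W (resR h c) :=
  (ConcreteCategory.congr_hom (q.naturality (homOfLE h).op) c).symm

theorem coord_congr {X Y : Scheme.{u}} {M : Y.Modules} (hM : PicF.IsInvertible M) (q : X ⟶ Y)
    (h : ∀ (V : Y.Opens) (c d : Γ(Y, V)), q.app V c = q.app V d → c = d) {V : Y.Opens} {x y : Γ(M, V)}
    (hxy : pullElt q x = pullElt q y) : x = y := by
  refine eq_of_locally _ _ fun p hp => ?_
  obtain ⟨U, hpU, e, he⟩ := InvX.exists_frame hM p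
  obtain ⟨c, hc⟩ := he.exists_coord inf_le_right (res M (inf_le_left : V ⊓ U ≤ V) x)
  obtain ⟨d, hd⟩ := he.exists_coord inf_le_right (res M (inf_le_left : V ⊓ U ≤ V) y)
  refine ⟨V ⊓ U, inf_le_left, ⟨hp, hpU⟩, ?_⟩
  rw [hc, hd]
  have hfr := isFrame_pullElt q (he.res (inf_le_right : V ⊓ U ≤ U))
  have e' := congrArg (fun z => res ((Scheme.Modules.pullback q).obj M)
    (q.preimage_mono (inf_le_left : V ⊓ U ≤ V)) z) hxy
  replace e' := ((res_pullElt q (inf_le_left : V ⊓ U ≤ V) x).symm.trans e').trans (res_pullElt q inf_le_left y)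
  rw [hc, hd, InvX.pullElt_smul, InvX.pullElt_smul] at e'
  rw [h _ c d (hfr.coord_unique le_rfl (by simpa using e'))]

theorem app_injective_of_covers {X Y : Scheme.{u}} {q : X ⟶ Y} (hq : FpqcDescLib.Covers q) (V : Y.Opens)
    (c d : Γ(Y, V)) (h : q.app V c = q.app V d) : c = d :=
  (existsUnique_fun_open hq V (q.app V c) fun T a b ha hb e => by
    rw [← CommRingCat.comp_apply, ← CommRingCat.comp_apply, Scheme.Hom.app_eq_appLE,
      Scheme.Hom.appLE_comp_appLE, Scheme.Hom.appLE_comp_appLE]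
    simp only [e]).unique rfl h.symm

theorem comp_res_pullElt {X Y Z : Scheme.{u}} (a : X ⟶ Y) (b : Y ⟶ Z) (M : Z.Modules) {W : Z.Opens}
    {O' : Y.Opens} (h : O' ≤ b ⁻¹ᵁ W) (s : Γ(M, W)) :
    ((Scheme.Modules.pullbackComp a b).hom.app M).app (a ⁻¹ᵁ O') (pullElt a (res _ h (pullElt b s))) =
      res ((Scheme.Modules.pullback (a ≫ b)).obj M) (a.preimage_mono h) (pullElt (a ≫ b) s) := by
  have e := app_res ((Scheme.Modules.pullbackComp a b).hom.app M) (a.preimage_mono h) (pullElt a (pullElt b s))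
  refine Eq.trans ?_ (e.trans (congrArg _ (comp_pullElt a b M s)))
  exact congrArg _ (res_pullElt a h _).symm

variable (Φ : P ⟶ Q)

/-- `n` is a possible value at `s` of a morphism over `b` extending `m`. -/
def Ext (b : Q.base ⟶ R.base) (m : P ⟶ R) (hb : m.base = Φ.base ≫ b) {V : Q.base.Opens} (s : Γ(fib Q, V))
    (n : Γ((Scheme.Modules.pullback b).obj (fib R), V)) : Prop :=
  ∀ t, Val Φ s t →
    ((Scheme.Modules.pullbackCongr hb).hom.app (fib R)).app _ ((fibMap m).app _ t) =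
      ((Scheme.Modules.pullbackComp Φ.base b).hom.app (fib R)).app _ (pullElt Φ.base n)

variable {Φ}

theorem congr_hom_pullElt {X Y : Scheme.{u}} {f g : X ⟶ Y} (h : f = g) (M : Y.Modules) {W : Y.Opens}
    (s : Γ(M, W)) {O : X.Opens} (hO : O ≤ f ⁻¹ᵁ W) :
    ((Scheme.Modules.pullbackCongr h).hom.app M).app O (res _ hO (pullElt f s)) =
      res _ (h ▸ hO) (pullElt g s) := by
  subst h
  simp [Scheme.Modules.pullbackCongr]

theorem ext_unique [IsIso Φ.fiber] (hq : FpqcDescLib.Covers Φ.base) (hR : PicF.IsInvertible (fib R))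
    {b : Q.base ⟶ R.base} {m : P ⟶ R} {hb : m.base = Φ.base ≫ b} {V : Q.base.Opens} {s : Γ(fib Q, V)}
    {n n' : Γ((Scheme.Modules.pullback b).obj (fib R), V)} (hn : Ext Φ b m hb s n) (hn' : Ext Φ b m hb s n') :
    n = n' := by
  obtain ⟨t, ht⟩ := exists_val Φ s
  refine coord_congr (PicClLib.isInvertible_pullback b hR) Φ.base (app_injective_of_covers hq) ?_
  exact ((ConcreteCategory.isIso_iff_bijective _).1 (Scheme.Modules.Hom.isIso_iff_isIso_app.1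
    (inferInstance : IsIso ((Scheme.Modules.pullbackComp Φ.base b).hom.app (fib R))) _)).1
    ((hn t ht).symm.trans (hn' t ht))

theorem ext_res [IsIso Φ.fiber] {b : Q.base ⟶ R.base} {m : P ⟶ R} {hb : m.base = Φ.base ≫ b}
    {V V' : Q.base.Opens} (h : V' ≤ V) {s : Γ(fib Q, V)} {n : Γ((Scheme.Modules.pullback b).obj (fib R), V)}
    (hn : Ext Φ b m hb s n) : Ext Φ b m hb (res _ h s) (res _ h n) := by
  intro t' ht'
  obtain ⟨t, ht⟩ := exists_val Φ s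
  rw [val_unique Φ ht' (res_val Φ h ht), app_res, app_res, hn t ht, ← app_res]
  exact congrArg _ (res_pullElt Φ.base h n)

theorem ext_smul [IsIso Φ.fiber] {b : Q.base ⟶ R.base} {m : P ⟶ R} {hb : m.base = Φ.base ≫ b}
    {V : Q.base.Opens} (c : Γ(Q.base, V)) {s : Γ(fib Q, V)} {n : Γ((Scheme.Modules.pullback b).obj (fib R), V)}
    (hn : Ext Φ b m hb s n) : Ext Φ b m hb (c • s) (c • n) := by
  intro t' ht'
  obtain ⟨t, ht⟩ := exists_val Φ s
  have h : Val Φ (c • s) (Φ.base.app V c • t) := by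
    show (fibMap Φ).app _ _ = _
    rw [Scheme.Modules.Hom.app_smul, ht, InvX.pullElt_smul]
  rw [val_unique Φ ht' h, Scheme.Modules.Hom.app_smul, Scheme.Modules.Hom.app_smul, hn t ht,
    InvX.pullElt_smul, Scheme.Modules.Hom.app_smul]

theorem coord_eq_of_eq {Z : MP.{u}} {g g' : Z ⟶ R} (h : g = g') {W : R.base.Opens} {f : Γ(fib R, W)}
    (hf : IsFrame f) {O : Z.base.Opens} (hO : O ≤ g.base ⁻¹ᵁ W) (hO' : O ≤ g'.base ⁻¹ᵁ W) {x : Γ(fib Z, O)}
    {c c' : Γ(Z.base, O)} (hc : (fibMap g).app O x = c • res _ hO (pullElt g.base f))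
    (hc' : (fibMap g').app O x = c' • res _ hO' (pullElt g'.base f)) : c = c' := by
  subst h
  exact (isFrame_pullElt g.base hf).coord_unique hO (hc.symm.trans hc')

theorem exists_ext_of_frame [IsIso Φ.fiber] (hq : FpqcDescLib.Covers Φ.base) {b : Q.base ⟶ R.base} {m : P ⟶ R}
    (hb : m.base = Φ.base ≫ b)
    (hcond : ∀ (Z : MP.{u}) (χ₁ χ₂ : Z ⟶ P), IsIso χ₁.fiber → χ₁ ≫ Φ = χ₂ ≫ Φ → χ₁ ≫ m = χ₂ ≫ m)
    {W : R.base.Opens} {f : Γ(fib R, W)} (hf : IsFrame f) {V : Q.base.Opens} (hV : V ≤ b ⁻¹ᵁ W)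
    (s : Γ(fib Q, V)) : ∃ n, Ext Φ b m hb s n := by
  obtain ⟨t, ht⟩ := exists_val Φ s
  have hle : Φ.base ⁻¹ᵁ V ≤ m.base ⁻¹ᵁ W := by
    rw [hb]
    exact Φ.base.preimage_mono hV
  have hfr := isFrame_pullElt m.base hf
  obtain ⟨r, hr⟩ := hfr.exists_coord hle ((fibMap m).app _ t)
  have hr' : ∀ (T : Scheme.{u}) (a a' : T ⟶ P.base) (ha : ⊤ ≤ a ⁻¹ᵁ Φ.base ⁻¹ᵁ V)
      (ha' : ⊤ ≤ a' ⁻¹ᵁ Φ.base ⁻¹ᵁ V), a ≫ Φ.base = a' ≫ Φ.base →
      a.appLE _ ⊤ ha r = a'.appLE _ ⊤ ha' r := by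
    intro T a a' ha ha' e
    let Z : MP.{u} := ⟨T, (Scheme.Modules.pullback a).obj (fib P)⟩
    let χ₁ : Z ⟶ P := ⟨a, 𝟙 _⟩
    haveI h1 : IsIso χ₁.fiber := inferInstanceAs (IsIso (𝟙 _))
    obtain ⟨χ₂, ⟨hχb, hχ⟩, -⟩ := existsUnique_lift Φ (χ₁ ≫ Φ) a' e.symm
    obtain ⟨u, hu⟩ := exists_val χ₁ t
    have he : a ⁻¹ᵁ Φ.base ⁻¹ᵁ V = (⊤ : T.Opens) := top_le_iff.1 ha
    have he' : a' ⁻¹ᵁ Φ.base ⁻¹ᵁ V = (⊤ : T.Opens) := top_le_iff.1 ha'
    subst hχb
    have hv : Val (χ₁ ≫ Φ) s u := val_comp χ₁ Φ ht hu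
    have hval : ∀ (g g' : Z ⟶ Q) (_ : g = g') (x : Γ(fib Z, g.base ⁻¹ᵁ V)) (y : Γ(fib Z, g'.base ⁻¹ᵁ V))
        (hg : (⊤ : T.Opens) ≤ g.base ⁻¹ᵁ V) (hg' : (⊤ : T.Opens) ≤ g'.base ⁻¹ᵁ V),
        res (fib Z) hg x = res (fib Z) hg' y → Val g s x → Val g' s y := by
      rintro g _ rfl x y hg hg' hxy hx
      have e2 : g.base ⁻¹ᵁ V ≤ (⊤ : T.Opens) := le_top
      have := congrArg (res (fib Z) e2) hxy
      rw [res_res, res_res, res_self, res_self] at this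
      rwa [← this]
    let u₂ : Γ(fib Z, χ₂.base ⁻¹ᵁ Φ.base ⁻¹ᵁ V) := res (fib Z) (le_top.trans ha) u
    have hu₂ : Val χ₂ t u₂ := val_of_comp χ₂ Φ ht
      (hval _ _ hχ.symm u u₂ ha ha' (res_res _ _ _).symm hv)
    have key : ∀ (χ : Z ⟶ P) (v : Γ(fib Z, χ.base ⁻¹ᵁ Φ.base ⁻¹ᵁ V)), Val χ t v →
        ∀ (hχ : (⊤ : T.Opens) ≤ χ.base ⁻¹ᵁ Φ.base ⁻¹ᵁ V),
        (fibMap (χ ≫ m)).app ⊤ (res (fib Z) hχ v) =
          χ.base.appLE _ ⊤ hχ r •
            res _ (hχ.trans (χ.base.preimage_mono hle)) (pullElt (χ.base ≫ m.base) f) := by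
      intro χ v hv hχ
      rw [app_res]
      have e1 : (fibMap (χ ≫ m)).app _ v = ((Scheme.Modules.pullbackComp χ.base m.base).hom.app (fib R)).app _
          (pullElt χ.base ((fibMap m).app _ t)) := by
        rw [fibMap_comp]
        show ((Scheme.Modules.pullbackComp χ.base m.base).hom.app (fib R)).app _
          (((Scheme.Modules.pullback χ.base).map (fibMap m)).app _ ((fibMap χ).app _ v)) = _
        rw [hv, map_pullElt]
      rw [e1, hr, InvX.pullElt_smul, Scheme.Modules.Hom.app_smul, comp_res_pullElt]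
      refine (res_smul _ _ _).trans ?_
      exact congr (congrArg _ rfl) (res_res _ _ _)
    exact coord_eq_of_eq (hcond Z χ₁ χ₂ h1 hχ.symm) hf (ha.trans (χ₁.base.preimage_mono hle))
      (ha'.trans (χ₂.base.preimage_mono hle)) (key χ₁ u hu ha)
      ((congrArg _ (res_res _ _ _).symm).trans (key χ₂ u₂ hu₂ ha'))
  obtain ⟨r', hr'', -⟩ := existsUnique_fun_open hq V r hr'
  refine ⟨r' • res _ hV (pullElt b f), fun t' ht' => ?_⟩
  rw [val_unique Φ ht' ht, hr, Scheme.Modules.Hom.app_smul, congr_hom_pullElt hb, InvX.pullElt_smul,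
    Scheme.Modules.Hom.app_smul, hr'', comp_res_pullElt]
  rfl

theorem existsUnique_descend [IsIso Φ.fiber] (hq : FpqcDescLib.Covers Φ.base) (hQ : PicF.IsInvertible (fib Q))
    (hR : PicF.IsInvertible (fib R)) (b : Q.base ⟶ R.base) (m : P ⟶ R) (hb : m.base = Φ.base ≫ b)
    (hcond : ∀ (Z : MP.{u}) (χ₁ χ₂ : Z ⟶ P), IsIso χ₁.fiber → χ₁ ≫ Φ = χ₂ ≫ Φ → χ₁ ≫ m = χ₂ ≫ m) :
    ∃! ψ : Q ⟶ R, ψ.base = b ∧ Φ ≫ ψ = m := by
  choose U hU e he W hW f hf using fun p : Q.base => (by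
    obtain ⟨U, hU, e, he⟩ := InvX.exists_frame hQ p
    obtain ⟨W, hW, f, hf⟩ := InvX.exists_frame hR (b p)
    exact ⟨U ⊓ b ⁻¹ᵁ W, ⟨hU, hW⟩, res _ inf_le_left e, he.res _, W, inf_le_right, f, hf⟩ :
      ∃ U : Q.base.Opens, p ∈ U ∧ ∃ e : Γ(fib Q, U), IsFrame e ∧ ∃ W : R.base.Opens, U ≤ b ⁻¹ᵁ W ∧
        ∃ f : Γ(fib R, W), IsFrame f)
  choose n hn using fun p => exists_ext_of_frame hq hb hcond (hf p) (hW p) (e p)
  have hcov : ∀ x, ∃ p, x ∈ U p := fun x => ⟨x, hU x⟩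
  have hc : ∀ (p q : Q.base) (O : Q.base.Opens) (hp : O ≤ U p) (hq' : O ≤ U q) (g : Γ(Q.base, O)),
      res (fib Q) hq' (e q) = g • res (fib Q) hp (e p) → res _ hq' (n q) = g • res _ hp (n p) := by
    intro p q O hp hq' g hg
    exact ext_unique hq hR (ext_res hq' (hn q)) (hg ▸ ext_smul g (ext_res hp (hn p)))
  let φ : fib Q ⟶ (Scheme.Modules.pullback b).obj (fib R) := InvX.ofFrames hcov he hc
  let ψ : Q ⟶ R := ⟨b, φ⟩
  have hfr : ∀ p, ∃ t, Val Φ (e p) t ∧ IsFrame t := fun p => by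
    obtain ⟨t, ht⟩ := exists_val Φ (e p)
    haveI : IsIso (fibMap Φ) := ‹IsIso Φ.fiber›
    refine ⟨t, ht, ?_⟩
    have h := (isFrame_pullElt Φ.base (he p)).map_iso (asIso (fibMap Φ)).symm
    rwa [← ht, show (asIso (fibMap Φ)).symm.hom.app _ ((fibMap Φ).app _ t) = t from
      congrArg (fun g => Scheme.Modules.Hom.app g _ t) (IsIso.hom_inv_id (fibMap Φ))] at h
  choose t ht hfrt using hfr
  have hcov' : ∀ x, ∃ p, x ∈ Φ.base ⁻¹ᵁ U p := fun x => ⟨Φ.base x, hU _⟩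
  have hval : ∀ (ψ' : Q ⟶ R), ψ'.base = b → ∀ p, (fibMap (Φ ≫ ψ')).app _ (t p) =
      ((Scheme.Modules.pullbackComp Φ.base ψ'.base).hom.app (fib R)).app _
        (pullElt Φ.base ((fibMap ψ').app _ (e p))) := by
    intro ψ' _ p
    rw [fibMap_comp]
    show ((Scheme.Modules.pullbackComp Φ.base ψ'.base).hom.app (fib R)).app _
      (((Scheme.Modules.pullback Φ.base).map (fibMap ψ')).app _ ((fibMap Φ).app _ (t p))) = _
    rw [ht p, map_pullElt]
  have hfib : ∀ {g g' : P ⟶ R} (h : g.base = g'.base),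
      fibMap g ≫ (Scheme.Modules.pullbackCongr h).hom.app (fib R) = fibMap g' → g = g' := by
    rintro ⟨gb, gf⟩ ⟨gb', gf'⟩ h h'
    dsimp at h
    subst h
    have : gf = gf' := by simpa [Scheme.Modules.pullbackCongr] using h'
    subst this
    rfl
  refine ⟨ψ, ⟨rfl, ?_⟩, ?_⟩
  · refine (hfib hb ?_).symm
    refine hom_ext_of_frames _ hcov' t hfrt fun p => ?_
    refine Eq.trans ?_ (hval ψ rfl p).symm
    show ((Scheme.Modules.pullbackCongr hb).hom.app (fib R)).app _ ((fibMap m).app _ (t p)) = _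
    rw [hn p (t p) (ht p)]
    show _ = ((Scheme.Modules.pullbackComp Φ.base b).hom.app (fib R)).app _ (pullElt Φ.base (φ.app _ (e p)))
    rw [InvX.ofFrames_app]
  · rintro ⟨b', φ'⟩ ⟨hb', hψ'⟩
    dsimp at hb'
    subst hb'
    refine mk_eq_mk.2 (hom_ext_of_frames U hcov e he fun p => ?_)
    refine ext_unique hq hR (m := m) (hb := hb) (fun t' ht' => ?_)
      (InvX.ofFrames_app hcov he hc p ▸ hn p)
    rw [val_unique Φ ht' (ht p)]
    refine Eq.trans ?_ (hval ⟨b', φ'⟩ rfl p)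
    subst hψ'
    simp [Scheme.Modules.pullbackCongr]

end Groth.Agent.ThetaH3
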