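import Groth.Agent.ThetaH3.Descent

/-!
# Gluing module morphisms from an open cover of the base, in the category of pairs
-/

universe u

open CategoryTheory CategoryTheory.Limits AlgebraicGeometry TopologicalSpace Opposite Pseudofunctor

noncomputable section

namespace Groth.Agent.ThetaH3

set_option linter.style.haveILetI false
set_option backward.isDefEq.respectTransparency false

open Groth.Agent.InvX Groth.Agent.AModX

theorem app_bijective_of_range {X Y : Scheme.{u}} (q : X ⟶ Y) [IsOpenImmersion q] {V : Y.Opens}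
    (hV : V ≤ q.opensRange) : Function.Bijective (q.app V) := by
  haveI : IsIso (q.app V) := q.isIso_app V hV
  exact ConcreteCategory.bijective_of_isIso (q.app V)

/-- An open immersion does not change the sections of an invertible module on the opens of its range. -/
theorem pullElt_injective_of_range {X Y : Scheme.{u}} (q : X ⟶ Y) [IsOpenImmersion q] {M : Y.Modules}
    (hM : PicF.IsInvertible M) {V : Y.Opens} (hV : V ≤ q.opensRange) :
    Function.Injective (pullElt q : Γ(M, V) → Γ((Scheme.Modules.pullback q).obj M, q ⁻¹ᵁ V)) := by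
  intro x y hxy
  refine eq_of_locally _ _ fun p hp => ?_
  obtain ⟨U, hpU, e, he⟩ := InvX.exists_frame hM p
  obtain ⟨c, hc⟩ := he.exists_coord inf_le_right (res M (inf_le_left : V ⊓ U ≤ V) x)
  obtain ⟨d, hd⟩ := he.exists_coord inf_le_right (res M (inf_le_left : V ⊓ U ≤ V) y)
  refine ⟨V ⊓ U, inf_le_left, ⟨hp, hpU⟩, ?_⟩
  rw [hc, hd]
  have hfr := isFrame_pullElt q (he.res (inf_le_right : V ⊓ U ≤ U))
  have e' := congrArg (fun z => res ((Scheme.Modules.pullback q).obj M)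
    (q.preimage_mono (inf_le_left : V ⊓ U ≤ V)) z) hxy
  replace e' := ((res_pullElt q (inf_le_left : V ⊓ U ≤ V) x).symm.trans e').trans (res_pullElt q inf_le_left y)
  rw [hc, hd, InvX.pullElt_smul, InvX.pullElt_smul] at e'
  rw [show c = d from (app_bijective_of_range q (inf_le_left.trans hV)).1 (hfr.coord_unique le_rfl (by simpa using e'))]

/-- Sections over the range of an open immersion come from downstairs. -/
theorem exists_pullElt_of_range {X Y : Scheme.{u}} (q : X ⟶ Y) [IsOpenImmersion q] {M : Y.Modules}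
    {V U : Y.Opens} (hVU : V ≤ U) {e : Γ(M, U)} (he : IsFrame e) (hV : V ≤ q.opensRange)
    (w : Γ((Scheme.Modules.pullback q).obj M, q ⁻¹ᵁ V)) : ∃ s : Γ(M, V), pullElt q s = w := by
  obtain ⟨r, hr⟩ := (isFrame_pullElt q he).exists_coord (q.preimage_mono hVU) w
  obtain ⟨r', rfl⟩ := (app_bijective_of_range q hV).2 r
  refine ⟨r' • res M hVU e, ?_⟩
  rw [InvX.pullElt_smul, hr]
  exact congrArg _ (res_pullElt q hVU e).symm

variable {Q : MP.{u}} {N : Q.base.Modules}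

/-- The pair over `P` mapping to `(Q.base, N)`. -/
abbrev toPair {P : MP.{u}} (Φ : P ⟶ Q) (h : fib P ⟶ (Scheme.Modules.pullback Φ.base).obj N) :
    P ⟶ (⟨Q.base, N⟩ : MP.{u}) :=
  ⟨Φ.base, h⟩

variable {ι : Type*} {P : ι → MP.{u}} (Φ : ∀ i, P i ⟶ Q)
  (h : ∀ i, fib (P i) ⟶ (Scheme.Modules.pullback (Φ i).base).obj N)

/-- Compatible families of module morphisms on an open cover glue. -/
theorem exists_glue_mor [∀ i, IsIso (Φ i).fiber] [∀ i, IsOpenImmersion (Φ i).base]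
    (hQ : PicF.IsInvertible (fib Q)) (hN : PicF.IsInvertible N)
    (hcov : ∀ x : Q.base, ∃ i, x ∈ (Φ i).base.opensRange)
    (hcompat : ∀ (i j : ι) (Z : MP.{u}) (χ : Z ⟶ P i) (χ' : Z ⟶ P j), IsIso χ.fiber →
      χ ≫ Φ i = χ' ≫ Φ j → χ ≫ toPair (Φ i) (h i) = χ' ≫ toPair (Φ j) (h j)) :
    ∃ φ : fib Q ⟶ N, ∀ i, Φ i ≫ vert φ = toPair (Φ i) (h i) := by
  choose k hk U hU e he hUk W hUW f hf using fun p : Q.base => (by
    obtain ⟨i, hi⟩ := hcov p
    obtain ⟨U, hU, e, he⟩ := InvX.exists_frame hQ p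
    obtain ⟨W, hW, f, hf⟩ := InvX.exists_frame hN p
    exact ⟨i, hi, U ⊓ (Φ i).base.opensRange ⊓ W, ⟨⟨hU, hi⟩, hW⟩,
      res _ (inf_le_left.trans inf_le_left) e, he.res _, inf_le_left.trans inf_le_right, W, inf_le_right, f, hf⟩ :
      ∃ i, p ∈ (Φ i).base.opensRange ∧ ∃ U : Q.base.Opens, p ∈ U ∧ ∃ e : Γ(fib Q, U), IsFrame e ∧
        U ≤ (Φ i).base.opensRange ∧ ∃ W : Q.base.Opens, U ≤ W ∧ ∃ f : Γ(N, W), IsFrame f)
  choose t ht using fun p => exists_val (Φ (k p)) (e p)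
  choose n hn using fun p => exists_pullElt_of_range (Φ (k p)).base (hUW p) (hf p) (hUk p)
    ((h (k p)).app _ (t p))
  have hag : ∀ (i j : ι) (O : Q.base.Opens) (_ : O ≤ (Φ i).base.opensRange) (_ : O ≤ (Φ j).base.opensRange)
      (s : Γ(fib Q, O)) (m m' : Γ(N, O)) (v : Γ(fib (P i), (Φ i).base ⁻¹ᵁ O))
      (v' : Γ(fib (P j), (Φ j).base ⁻¹ᵁ O)), Val (Φ i) s v → Val (toPair (Φ i) (h i)) m v →
      Val (Φ j) s v' → Val (toPair (Φ j) (h j)) m' v' → m = m' := by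
    intro i j O hi hj s m m' v v' hv hmv hv' hmv'
    let Z : MP.{u} := ⟨(O : Scheme.{u}), (Scheme.Modules.pullback O.ι).obj (fib Q)⟩
    let z : Z ⟶ Q := ⟨O.ι, 𝟙 _⟩
    haveI : IsIso z.fiber := inferInstanceAs (IsIso (𝟙 _))
    have lifts : ∀ l : ι, O ≤ (Φ l).base.opensRange → ∃ χ : Z ⟶ P l, χ ≫ Φ l = z := by
      intro l hl
      obtain ⟨χ, ⟨-, hχ⟩, -⟩ := existsUnique_lift (Φ l) z (IsOpenImmersion.lift (Φ l).base O.ι (by
        rw [Scheme.Opens.range_ι]; exact hl)) (IsOpenImmersion.lift_fac _ _ _)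
      exact ⟨χ, hχ⟩
    obtain ⟨χ, hχ⟩ := lifts i hi
    obtain ⟨χ', hχ'⟩ := lifts j hj
    have hiso : ∀ (l : ι) (χ : Z ⟶ P l), χ ≫ Φ l = z → IsIso χ.fiber := fun l χ hl =>
      isIso_fiber_of_comp χ (Φ l) (by rw [hl]; infer_instance)
    haveI := hiso i χ hχ
    haveI := hiso j χ' hχ'
    obtain ⟨w, hw⟩ := exists_val χ v
    obtain ⟨w', hw'⟩ := exists_val χ' v'
    have move : ∀ {M : MP.{u}} (g g' : Z ⟶ M) (_ : g = g') {O' : M.base.Opens} (a b : Γ(fib M, O'))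
        (x : Γ(fib Z, g.base ⁻¹ᵁ O')) (y : Γ(fib Z, g'.base ⁻¹ᵁ O'))
        (hO : (⊤ : Z.base.Opens) ≤ g.base ⁻¹ᵁ O') (hO' : (⊤ : Z.base.Opens) ≤ g'.base ⁻¹ᵁ O'),
        Val g a x → Val g' b y → (res (fib Z) hO x = res (fib Z) hO' y) →
        pullElt g.base a = pullElt g.base b := by
      rintro M g _ rfl O' a b x y hO hO' hx hy hxy
      have e2 : g.base ⁻¹ᵁ O' ≤ (⊤ : Z.base.Opens) := le_top
      have h2 := congrArg (res (fib Z) e2) hxy
      rw [res_res, res_res, res_self, res_self] at h2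
      rw [← hx, ← hy, h2]
    have htop : ∀ (l : ι) (χ : Z ⟶ P l), χ ≫ Φ l = z → (⊤ : Z.base.Opens) ≤ χ.base ⁻¹ᵁ (Φ l).base ⁻¹ᵁ O := by
      intro l χ hl x _
      show (χ ≫ Φ l).base x ∈ O
      rw [hl]
      exact x.2
    have hww : res (fib Z) (htop i χ hχ) w = res (fib Z) (htop j χ' hχ') w' := by
      have h1 := val_comp χ (Φ i) hv hw
      have h2 := val_comp χ' (Φ j) hv' hw'
      have key : ∀ (g g' : Z ⟶ Q) (_ : g = g') (x : Γ(fib Z, g.base ⁻¹ᵁ O)) (y : Γ(fib Z, g'.base ⁻¹ᵁ O))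
          (hO : (⊤ : Z.base.Opens) ≤ g.base ⁻¹ᵁ O) (hO' : (⊤ : Z.base.Opens) ≤ g'.base ⁻¹ᵁ O),
          IsIso g.fiber → Val g s x → Val g' s y → res (fib Z) hO x = res (fib Z) hO' y := by
        rintro g _ rfl x y hO hO' _ hx hy
        rw [val_unique g hx hy]
      exact key _ _ (hχ.trans hχ'.symm) w w' _ _ (by rw [hχ]; infer_instance) h1 h2
    have h3 := move _ _ (hcompat i j Z χ χ' inferInstance (hχ.trans hχ'.symm)) m m' w w'
      (htop i χ hχ) (htop j χ' hχ') (val_comp χ _ hmv hw) (val_comp χ' _ hmv' hw') hww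
    have hb : (χ ≫ toPair (Φ i) (h i)).base = O.ι := congrArg CoGrothendieck.Hom.base hχ
    exact pullElt_injective_of_range O.ι hN (Scheme.Opens.opensRange_ι O).ge (hb ▸ h3)
  have hvalN : ∀ p, Val (toPair (Φ (k p)) (h (k p))) (n p) (t p) := fun p => (hn p).symm
  have hc : ∀ (p q : Q.base) (O : Q.base.Opens) (hp : O ≤ U p) (hq : O ≤ U q) (g : Γ(Q.base, O)),
      res (fib Q) hq (e q) = g • res (fib Q) hp (e p) → res N hq (n q) = g • res N hp (n p) := by
    intro p q O hp hq g hg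
    let F := Φ (k p)
    have hv : Val F (g • res (fib Q) hp (e p)) (F.base.app O g • res _ (F.base.preimage_mono hp) (t p)) := by
      show (fibMap F).app _ _ = _
      rw [Scheme.Modules.Hom.app_smul, res_val F hp (ht p), InvX.pullElt_smul]
    have hm : Val (toPair F (h (k p))) (g • res N hp (n p))
        (F.base.app O g • res _ (F.base.preimage_mono hp) (t p)) := by
      show (fibMap (toPair F (h (k p)))).app _ _ = _
      rw [Scheme.Modules.Hom.app_smul, res_val (toPair F (h (k p))) hp (hvalN p), InvX.pullElt_smul]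
    exact hag (k q) (k p) O (hq.trans (hUk q)) (hp.trans (hUk p)) _ _ _ _ _
      (hg ▸ res_val (Φ (k q)) hq (ht q)) (res_val (toPair (Φ (k q)) (h (k q))) hq (hvalN q)) hv hm
  have hcovU : ∀ x, ∃ p, x ∈ U p := fun x => ⟨x, hU x⟩
  let φ : fib Q ⟶ N := InvX.ofFrames hcovU he hc
  refine ⟨φ, fun i => ?_⟩
  rw [comp_vert]
  refine mk_eq_mk.2 ?_
  let G : Q.base → Q.base.Opens := fun p => U p ⊓ (Φ i).base.opensRange
  choose v hv using fun p => exists_val (Φ i) (res (fib Q) (inf_le_left : G p ≤ U p) (e p))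
  choose m hm using fun p => exists_pullElt_of_range (Φ i).base ((inf_le_left : G p ≤ U p).trans (hUW p))
    (hf p) (inf_le_right : G p ≤ _) ((h i).app _ (v p))
  haveI : IsIso (fibMap (Φ i)) := ‹∀ i, IsIso (Φ i).fiber› i
  have hfrv : ∀ p, IsFrame (v p) := fun p => by
    have hh := (isFrame_pullElt (Φ i).base ((he p).res (inf_le_left : G p ≤ U p))).map_iso
      (asIso (fibMap (Φ i))).symm
    rwa [← hv p, show (asIso (fibMap (Φ i))).symm.hom.app _ ((fibMap (Φ i)).app _ (v p)) = v p from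
      congrArg (fun g => Scheme.Modules.Hom.app g _ (v p)) (IsIso.hom_inv_id (fibMap (Φ i)))] at hh
  refine hom_ext_of_frames (fun p => (Φ i).base ⁻¹ᵁ G p) (fun y => ⟨(Φ i).base y, hU _, ⟨y, rfl⟩⟩) v hfrv
    fun p => ?_
  show ((Scheme.Modules.pullback (Φ i).base).map φ).app _ ((fibMap (Φ i)).app _ (v p)) = (h i).app _ (v p)
  rw [hv p, map_pullElt, InvX.ofFrames_app_res, ← hm p]
  congr 1
  exact (hag i (k p) (G p) inf_le_right (inf_le_left.trans (hUk p)) _ _ _ _ _ (hv p) (hm p).symm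
    (res_val (Φ (k p)) inf_le_left (ht p)) (res_val (toPair (Φ (k p)) (h (k p))) inf_le_left (hvalN p))).symm

omit h in
/-- A morphism of modules is determined on an open cover. -/
theorem glue_ext [∀ i, IsIso (Φ i).fiber] [∀ i, IsOpenImmersion (Φ i).base]
    (hQ : PicF.IsInvertible (fib Q)) (hN : PicF.IsInvertible N)
    (hcov : ∀ x : Q.base, ∃ i, x ∈ (Φ i).base.opensRange) {φ φ' : fib Q ⟶ N}
    (hφ : ∀ i, Φ i ≫ vert φ = Φ i ≫ vert φ') : φ = φ' := by
  choose k hk U hU e he hUk using fun p : Q.base => (by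
    obtain ⟨i, hi⟩ := hcov p
    obtain ⟨U, hU, e, he⟩ := InvX.exists_frame hQ p
    exact ⟨i, hi, U ⊓ (Φ i).base.opensRange, ⟨hU, hi⟩, res _ inf_le_left e, he.res _, inf_le_right⟩ :
      ∃ i, p ∈ (Φ i).base.opensRange ∧ ∃ U : Q.base.Opens, p ∈ U ∧ ∃ e : Γ(fib Q, U), IsFrame e ∧
        U ≤ (Φ i).base.opensRange)
  refine hom_ext_of_frames U (fun p => ⟨p, hU p⟩) e he fun p => ?_
  obtain ⟨t, ht⟩ := exists_val (Φ (k p)) (e p)
  refine pullElt_injective_of_range (Φ (k p)).base hN (hUk p) ?_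
  have h1 := hφ (k p)
  rw [comp_vert, comp_vert] at h1
  have h2 := congrArg (fun g => Scheme.Modules.Hom.app g _ t) (mk_eq_mk.1 h1)
  change ((Scheme.Modules.pullback (Φ (k p)).base).map φ).app _ ((fibMap (Φ (k p))).app _ t) =
    ((Scheme.Modules.pullback (Φ (k p)).base).map φ').app _ ((fibMap (Φ (k p))).app _ t) at h2
  rwa [ht, map_pullElt, map_pullElt] at h2

section Mor

variable {R : MP.{u}}

omit h in
/-- A morphism of pairs factors through the inverse image of the target module. -/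
theorem exists_eq_vert_comp (m : Q ⟶ R) :
    ∃ φ : fib Q ⟶ (Scheme.Modules.pullback m.base).obj (fib R),
      vert φ ≫ (⟨m.base, 𝟙 _⟩ : (⟨Q.base, (Scheme.Modules.pullback m.base).obj (fib R)⟩ : MP.{u}) ⟶ R) = m := by
  refine ⟨m.fiber, ?_⟩
  rw [vert_comp_mor]
  obtain ⟨b, χ⟩ := m
  exact mk_eq_mk.2 (Category.comp_id _)

omit h in
/-- Morphisms of pairs are determined on an open cover. -/
theorem hom_ext_of_cover [∀ i, IsIso (Φ i).fiber] [∀ i, IsOpenImmersion (Φ i).base]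
    (hQ : PicF.IsInvertible (fib Q)) (hR : PicF.IsInvertible (fib R))
    (hcov : ∀ x : Q.base, ∃ i, x ∈ (Φ i).base.opensRange) {m m' : Q ⟶ R} (hb : m.base = m'.base)
    (hm : ∀ i, Φ i ≫ m = Φ i ≫ m') : m = m' := by
  obtain ⟨b, χ⟩ := m
  obtain ⟨b', χ'⟩ := m'
  change b = b' at hb
  subst hb
  obtain ⟨φ, hφ⟩ := exists_eq_vert_comp (⟨b, χ⟩ : Q ⟶ R)
  obtain ⟨φ', hφ'⟩ := exists_eq_vert_comp (⟨b, χ'⟩ : Q ⟶ R)
  let Tr : (⟨Q.base, (Scheme.Modules.pullback b).obj (fib R)⟩ : MP.{u}) ⟶ R := ⟨b, 𝟙 _⟩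
  haveI : IsIso Tr.fiber := inferInstanceAs (IsIso (𝟙 _))
  rw [← hφ, ← hφ']
  rw [glue_ext Φ hQ (PicClLib.isInvertible_pullback b hR) hcov (φ := φ) (φ' := φ') fun i => ?_]
  refine hom_ext_lift Tr ?_ ?_
  · rfl
  · rw [Category.assoc, Category.assoc]
    exact (congrArg (Φ i ≫ ·) hφ).trans ((hm i).trans (congrArg (Φ i ≫ ·) hφ').symm)

omit h in
/-- Compatible morphisms of pairs on an open cover glue. -/
theorem exists_hom_of_cover [∀ i, IsIso (Φ i).fiber] [∀ i, IsOpenImmersion (Φ i).base]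
    (hQ : PicF.IsInvertible (fib Q)) (hR : PicF.IsInvertible (fib R))
    (hcov : ∀ x : Q.base, ∃ i, x ∈ (Φ i).base.opensRange) (b : Q.base ⟶ R.base) (m : ∀ i, P i ⟶ R)
    (hb : ∀ i, (m i).base = (Φ i).base ≫ b)
    (hcompat : ∀ (i j : ι) (Z : MP.{u}) (χ : Z ⟶ P i) (χ' : Z ⟶ P j), IsIso χ.fiber →
      χ ≫ Φ i = χ' ≫ Φ j → χ ≫ m i = χ' ≫ m j) :
    ∃ ψ : Q ⟶ R, ψ.base = b ∧ ∀ i, Φ i ≫ ψ = m i := by
  let Tr : (⟨Q.base, (Scheme.Modules.pullback b).obj (fib R)⟩ : MP.{u}) ⟶ R := ⟨b, 𝟙 _⟩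
  haveI : IsIso Tr.fiber := inferInstanceAs (IsIso (𝟙 _))
  have hl : ∀ i, ∃ g : fib (P i) ⟶ (Scheme.Modules.pullback (Φ i).base).obj
      ((Scheme.Modules.pullback b).obj (fib R)), toPair (Φ i) g ≫ Tr = m i := by
    intro i
    obtain ⟨⟨c, g⟩, ⟨hc, hg⟩, -⟩ := existsUnique_lift Tr (m i) (Φ i).base (hb i).symm
    change c = (Φ i).base at hc
    subst hc
    exact ⟨g, hg⟩
  choose g hg using hl
  obtain ⟨φ, hφ⟩ := exists_glue_mor Φ g hQ (PicClLib.isInvertible_pullback b hR) hcov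
    fun i j Z χ χ' hi e => by
      refine hom_ext_lift Tr ?_ ?_
      · show (χ ≫ Φ i).base = (χ' ≫ Φ j).base
        rw [e]
      · rw [Category.assoc, Category.assoc, hg, hg]
        exact hcompat i j Z χ χ' hi e
  refine ⟨vert φ ≫ Tr, Category.id_comp b, fun i => ?_⟩
  rw [← Category.assoc, hφ, hg]

end Mor

end Groth.Agent.ThetaH3
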