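import Groth.Agent.ThetaH3.Transfer
import Groth.Agent.InvX.GenLocusPull
import Groth.Agent.EtLC12.AssocUnit
import Groth.Agent.FpqcDescLib.Basic

/-!
# Values of morphisms of pairs on sections, and descent of functions
-/

universe u

open CategoryTheory CategoryTheory.Limits AlgebraicGeometry TopologicalSpace Opposite

noncomputable section

namespace Groth.Agent.ThetaH3

open Groth.Agent.InvX Groth.Agent.AModX

variable {P Q R : MP.{u}}

/-- The module of a pair. -/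
abbrev fib (P : MP.{u}) : P.base.Modules := P.fiber

/-- The module part of a morphism of pairs. -/
abbrev fibMap (f : P ⟶ Q) : fib P ⟶ (Scheme.Modules.pullback f.base).obj (fib Q) := f.fiber

theorem fibMap_comp (χ : P ⟶ Q) (f : Q ⟶ R) :
    fibMap (χ ≫ f) = fibMap χ ≫ (Scheme.Modules.pullback χ.base).map (fibMap f) ≫
      (Scheme.Modules.pullbackComp χ.base f.base).hom.app (fib R) := rfl

/-- The section `t` is sent by `f` to the inverse image of `s`. -/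
def Val (f : P ⟶ Q) {V : Q.base.Opens} (s : Γ(fib Q, V)) (t : Γ(fib P, f.base ⁻¹ᵁ V)) : Prop :=
  (fibMap f).app _ t = pullElt f.base s

/-- The composite evaluated through an intermediate section. -/
theorem app_comp (χ : P ⟶ Q) (f : Q ⟶ R) {W : R.base.Opens} (t : Γ(fib Q, f.base ⁻¹ᵁ W))
    (u : Γ(fib P, χ.base ⁻¹ᵁ f.base ⁻¹ᵁ W)) (hu : Val χ t u) :
    (fibMap (χ ≫ f)).app _ u =
      ((Scheme.Modules.pullbackComp χ.base f.base).hom.app (fib R)).app _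
        (pullElt χ.base ((fibMap f).app _ t)) := by
  rw [fibMap_comp]
  show ((Scheme.Modules.pullbackComp χ.base f.base).hom.app (fib R)).app _
    (((Scheme.Modules.pullback χ.base).map (fibMap f)).app _ ((fibMap χ).app _ u)) = _
  rw [hu, map_pullElt]

theorem comp_pullElt {X Y Z : Scheme.{u}} (a : X ⟶ Y) (b : Y ⟶ Z) (M : Z.Modules) {W : Z.Opens} (s : Γ(M, W)) :
    ((Scheme.Modules.pullbackComp a b).hom.app M).app _ (pullElt a (pullElt b s)) = pullElt (a ≫ b) s :=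
  EtLC12.AssocUnit.usec_comp a b M W s

theorem val_comp (χ : P ⟶ Q) (f : Q ⟶ R) {W : R.base.Opens} {s : Γ(fib R, W)} {t : Γ(fib Q, f.base ⁻¹ᵁ W)}
    {u : Γ(fib P, χ.base ⁻¹ᵁ f.base ⁻¹ᵁ W)} (ht : Val f s t) (hu : Val χ t u) : Val (χ ≫ f) s u := by
  show (fibMap (χ ≫ f)).app _ u = _
  rw [app_comp χ f t u hu, ht, comp_pullElt]
  rfl

theorem fibMap_app_bijective (f : P ⟶ Q) [IsIso f.fiber] (V : P.base.Opens) :
    Function.Bijective ((fibMap f).app V) :=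
  haveI : IsIso (fibMap f) := ‹IsIso f.fiber›
  (ConcreteCategory.isIso_iff_bijective _).1 (Scheme.Modules.Hom.isIso_iff_isIso_app.1 inferInstance V)

theorem exists_val (f : P ⟶ Q) [IsIso f.fiber] {V : Q.base.Opens} (s : Γ(fib Q, V)) : ∃ t, Val f s t :=
  (fibMap_app_bijective f _).2 _

theorem val_unique (f : P ⟶ Q) [IsIso f.fiber] {V : Q.base.Opens} {s : Γ(fib Q, V)}
    {t t' : Γ(fib P, f.base ⁻¹ᵁ V)} (ht : Val f s t) (ht' : Val f s t') : t = t' :=
  (fibMap_app_bijective f _).1 (ht.trans ht'.symm)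

/-- A section determined through a composite. -/
theorem val_of_comp (χ : P ⟶ Q) (f : Q ⟶ R) [IsIso f.fiber] {W : R.base.Opens} {s : Γ(fib R, W)}
    {t : Γ(fib Q, f.base ⁻¹ᵁ W)} {u : Γ(fib P, χ.base ⁻¹ᵁ f.base ⁻¹ᵁ W)} (ht : Val f s t)
    (h : Val (χ ≫ f) s u) : Val χ t u := by
  haveI : IsIso (fibMap f) := ‹IsIso f.fiber›
  let g := (Scheme.Modules.pullback χ.base).map (fibMap f) ≫
    (Scheme.Modules.pullbackComp χ.base f.base).hom.app (fib R)
  haveI : IsIso g := inferInstance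
  refine ((ConcreteCategory.isIso_iff_bijective _).1
    (Scheme.Modules.Hom.isIso_iff_isIso_app.1 (inferInstance : IsIso g) _)).1 ?_
  show ((Scheme.Modules.pullbackComp χ.base f.base).hom.app (fib R)).app _
      (((Scheme.Modules.pullback χ.base).map (fibMap f)).app _ ((fibMap χ).app _ u)) =
    ((Scheme.Modules.pullbackComp χ.base f.base).hom.app (fib R)).app _
      (((Scheme.Modules.pullback χ.base).map (fibMap f)).app _ (pullElt χ.base t))
  rw [map_pullElt, ht, comp_pullElt]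
  exact h

theorem res_val (f : P ⟶ Q) {V V' : Q.base.Opens} (h : V' ≤ V) {s : Γ(fib Q, V)}
    {t : Γ(fib P, f.base ⁻¹ᵁ V)} (ht : Val f s t) :
    Val f (res (fib Q) h s) (res (fib P) (f.base.preimage_mono h) t) := by
  show (fibMap f).app _ _ = _
  rw [app_res, ht, res_pullElt]

section Fun

/-- The test scheme for functions. -/
abbrev funRing : CommRingCat.{u} := CommRingCat.of (Polynomial (ULift.{u} ℤ))

/-- The morphism of a function. -/
def funMor {X : Scheme.{u}} (r : Γ(X, ⊤)) : X ⟶ Spec funRing.{u} :=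
  X.toSpecΓ ≫ Spec.map (CommRingCat.ofHom
    (Polynomial.eval₂RingHom ((Int.castRingHom Γ(X, ⊤)).comp (ULift.ringEquiv (R := ℤ)).toRingHom) r))

theorem comp_funMor {X Y : Scheme.{u}} (a : X ⟶ Y) (r : Γ(Y, ⊤)) : a ≫ funMor r = funMor (a.appTop r) := by
  rw [funMor, Scheme.toSpecΓ_naturality_assoc, ← Spec.map_comp, funMor]
  congr 2
  refine CommRingCat.hom_ext (Polynomial.ringHom_ext (fun c => ?_) ?_)
  · simp
  · simp

/-- The function of a morphism. -/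
def funOf {X : Scheme.{u}} (g : X ⟶ Spec funRing.{u}) : Γ(X, ⊤) :=
  g.appTop ((Scheme.ΓSpecIso funRing.{u}).inv Polynomial.X)

theorem funOf_funMor {X : Scheme.{u}} (r : Γ(X, ⊤)) : funOf (funMor r) = r := by
  rw [funOf, funMor, Scheme.Hom.comp_appTop, CommRingCat.comp_apply, ← CommRingCat.comp_apply,
    ← CommRingCat.comp_apply]
  have e : (Scheme.ΓSpecIso funRing.{u}).inv ≫ (Spec.map (CommRingCat.ofHom
      (Polynomial.eval₂RingHom ((Int.castRingHom Γ(X, ⊤)).comp (ULift.ringEquiv (R := ℤ)).toRingHom) r))).appTop ≫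
      X.toSpecΓ.appTop = CommRingCat.ofHom
      (Polynomial.eval₂RingHom ((Int.castRingHom Γ(X, ⊤)).comp (ULift.ringEquiv (R := ℤ)).toRingHom) r) := by
    rw [← Scheme.ΓSpecIso_inv_naturality_assoc, Scheme.toSpecΓ_appTop]
    exact (congrArg _ (Scheme.ΓSpecIso _).inv_hom_id).trans (Category.comp_id _)
  rw [e]
  exact Polynomial.eval₂_X _ _

theorem existsUnique_fun {X Y : Scheme.{u}} {q : X ⟶ Y} (hq : FpqcDescLib.Covers q) (r : Γ(X, ⊤))
    (hr : ∀ (T : Scheme.{u}) (a b : T ⟶ X), a ≫ q = b ≫ q → a.appTop r = b.appTop r) :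
    ∃! r' : Γ(Y, ⊤), q.appTop r' = r := by
  obtain ⟨g, hg, -⟩ := hq.desc (funMor r) fun T a b e => by rw [comp_funMor, comp_funMor, hr T a b e]
  refine ⟨funOf g, ?_, fun r' hr' => ?_⟩
  · show q.appTop (g.appTop _) = r
    rw [← CommRingCat.comp_apply, ← Scheme.Hom.comp_appTop, hg]
    exact funOf_funMor r
  · haveI := hq.epi
    have e : funMor r' = g := by rw [← cancel_epi q, comp_funMor, hr', hg]
    rw [← e, funOf_funMor]

/-- Descent of functions on an open. -/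
theorem existsUnique_fun_open {X Y : Scheme.{u}} {q : X ⟶ Y} (hq : FpqcDescLib.Covers q) (V : Y.Opens)
    (r : Γ(X, q ⁻¹ᵁ V))
    (hr : ∀ (T : Scheme.{u}) (a b : T ⟶ X) (ha : ⊤ ≤ a ⁻¹ᵁ q ⁻¹ᵁ V) (hb : ⊤ ≤ b ⁻¹ᵁ q ⁻¹ᵁ V),
      a ≫ q = b ≫ q → a.appLE _ ⊤ ha r = b.appLE _ ⊤ hb r) :
    ∃! r' : Γ(Y, V), q.app V r' = r := by
  have hqV : FpqcDescLib.Covers (q ∣_ V) := hq.pullback V.ι _ _ (isPullback_morphismRestrict q V)
  have key : ∀ {T : Scheme.{u}} (a : T ⟶ (q ⁻¹ᵁ V).toScheme) (h : ⊤ ≤ (a ≫ (q ⁻¹ᵁ V).ι) ⁻¹ᵁ q ⁻¹ᵁ V),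
      a.appTop ((Scheme.Opens.topIso (q ⁻¹ᵁ V)).inv r) = (a ≫ (q ⁻¹ᵁ V).ι).appLE _ ⊤ h r := by
    intro T a h
    rw [← CommRingCat.comp_apply]
    have e1 : (q ⁻¹ᵁ V).ι.appLE (q ⁻¹ᵁ V) ⊤ (fun z _ => z.2) = (Scheme.Opens.topIso (q ⁻¹ᵁ V)).inv := by
      rw [Scheme.Opens.ι_appLE, Scheme.Opens.topIso_inv]
      exact congrArg X.presheaf.map (Subsingleton.elim _ _)
    rw [← e1, show a.appTop = a.appLE ⊤ ⊤ (le_refl _) from Scheme.Hom.app_eq_appLE _, Scheme.Hom.appLE_comp_appLE]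
  have hqres : ∀ s : Γ(Y, V), (q ∣_ V).appTop ((Scheme.Opens.topIso V).inv s) =
      (Scheme.Opens.topIso (q ⁻¹ᵁ V)).inv (q.app V s) := by
    intro s
    rw [← CommRingCat.comp_apply, ← CommRingCat.comp_apply]
    congr 1
    have e1 : (q ⁻¹ᵁ V).ι.appLE (q ⁻¹ᵁ V) ⊤ (fun z _ => z.2) = (Scheme.Opens.topIso (q ⁻¹ᵁ V)).inv := by
      rw [Scheme.Opens.ι_appLE, Scheme.Opens.topIso_inv]
      exact congrArg X.presheaf.map (Subsingleton.elim _ _)
    have e2 : V.ι.appLE V ⊤ (fun z _ => z.2) = (Scheme.Opens.topIso V).inv := by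
      rw [Scheme.Opens.ι_appLE, Scheme.Opens.topIso_inv]
      exact congrArg Y.presheaf.map (Subsingleton.elim _ _)
    have e3 : ((q ∣_ V) ≫ V.ι).appLE V ⊤ (fun z _ => ((q ∣_ V) z).2) =
        ((q ⁻¹ᵁ V).ι ≫ q).appLE V ⊤ (fun z _ => z.2) := by
      simp only [morphismRestrict_ι]
    rw [← e1, ← e2, show (q ∣_ V).appTop = (q ∣_ V).appLE ⊤ ⊤ (le_refl _) from Scheme.Hom.app_eq_appLE _,
      Scheme.Hom.app_eq_appLE, Scheme.Hom.appLE_comp_appLE, Scheme.Hom.appLE_comp_appLE, e3]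
  obtain ⟨s, hs, huniq⟩ := existsUnique_fun hqV ((Scheme.Opens.topIso (q ⁻¹ᵁ V)).inv r) fun T a b e => by
    have ha : ⊤ ≤ (a ≫ (q ⁻¹ᵁ V).ι) ⁻¹ᵁ q ⁻¹ᵁ V := fun z _ => (a z).2
    have hb : ⊤ ≤ (b ≫ (q ⁻¹ᵁ V).ι) ⁻¹ᵁ q ⁻¹ᵁ V := fun z _ => (b z).2
    rw [key a ha, key b hb]
    refine hr T _ _ ha hb ?_
    rw [Category.assoc, Category.assoc, ← morphismRestrict_ι, reassoc_of% e]
  refine ⟨(Scheme.Opens.topIso V).hom s, ?_, fun s' hs' => ?_⟩
  · apply (ConcreteCategory.bijective_of_isIso (Scheme.Opens.topIso (q ⁻¹ᵁ V)).inv).1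
    rw [← hqres, Iso.hom_inv_id_apply, hs]
  · rw [← huniq ((Scheme.Opens.topIso V).inv s') ((hqres s').trans (congrArg _ hs')), Iso.inv_hom_id_apply]

end Fun

end Groth.Agent.ThetaH3
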