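import Groth.Agent.PicfLib.Seesaw.Main

/-!
# The seesaw subscheme tested on all schemes

The Noetherian hypothesis on the test schemes in `PicfLib.Seesaw` is replaced by injectivity of the functions.
-/

set_option autoImplicit false
set_option linter.style.haveILetI false
set_option linter.unusedSectionVars false
set_option backward.isDefEq.respectTransparency false
set_option backward.isDefEq.respectTransparency.types false

universe u

open CategoryTheory CategoryTheory.Limits AlgebraicGeometry TopologicalSpace Opposite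

namespace Groth.Agent.ThetaH3.SeesawAll

open Groth.Agent.InvX Groth.Agent.H23.TrivBasic Groth.Agent.H23.SeesawGlobal Groth.Agent.PicfLib.Seesaw
open Groth.Agent.H23.Seesaw (specAlg FibreTriv FibreH0)

variable {X S : Scheme.{u}} {f : X ⟶ S} {L : X.Modules}

section Affine

variable {A : Type u} [CommRing A] [IsNoetherianRing A] {Y : Scheme.{u}} [Y.Over (Spec (CommRingCat.of A))]
  [IsProper (Y ↘ Spec (CommRingCat.of A))] [Flat (Y ↘ Spec (CommRingCat.of A))]
  [GeometricallyIntegral (Y ↘ Spec (CommRingCat.of A))] {M : Y.Modules}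

local notation "π" => (Y ↘ Spec (CommRingCat.of A))

theorem algebraMap_eq_zero_of_forms_of_inj {Q : ModuleCat.{u} A} {e : (Q →ₗ[A] A) ≃+ Γ(M, ⊤)}
    (hQ : Groth.Agent.H23.SecRep.IsRep M Q e) {B : Type u} [CommRing B] [Algebra A B]
    (hB : Function.Injective (pullback.snd π (specAlg A B)).appTop)
    (hT : Triv ((Scheme.Modules.pullback (pullback.fst π (specAlg A B))).obj M)) {a : A}
    (ha : ∀ (ψ : Q →ₗ[A] B) (q : Q), algebraMap A B a * ψ q = 0) : algebraMap A B a = 0 := by
  obtain ⟨eB, he1, -⟩ := hQ B _ _ _ (IsPullback.of_hasPullback π (specAlg A B))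
  obtain ⟨s, hs⟩ := hT.exists_frame
  let v := pullback.snd π (specAlg A B)
  have hinj : Function.Injective (Coh.toGlobal v) :=
    hB.comp (ConcreteCategory.bijective_of_isIso (Scheme.ΓSpecIso (CommRingCat.of B)).inv).1
  refine hinj (((hs.coord_unique le_rfl (r' := 0) ?_)).trans (map_zero _).symm)
  rw [AModX.res_self, zero_smul]
  have h0 : LinearMap.mulLeft A (algebraMap A B a) ∘ₗ eB.symm s = 0 := LinearMap.ext fun q => ha _ q
  refine ((congrArg (_ • ·) (eB.apply_symm_apply s).symm).trans (he1 _ _).symm).trans ?_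
  exact (congrArg eB h0).trans (map_zero eB)

/-- The equations of the trivial locus near a point. -/
theorem exists_ideal_all (hM : PicF.IsInvertible M) (x : ↥(Spec (CommRingCat.of A))) :
    ∃ f : A, f ∉ x.asIdeal ∧ ∃ I : Ideal A,
      (∀ (B : Type u) [CommRing B] [Algebra A B],
        Function.Injective (pullback.snd π (specAlg A B)).appTop → IsUnit (algebraMap A B f) →
        Triv ((Scheme.Modules.pullback (pullback.fst π (specAlg A B))).obj M) → ∀ a ∈ I, algebraMap A B a = 0) ∧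
      ∀ (B : Type u) [CommRing B] [IsNoetherianRing B] [Algebra A B], IsUnit (algebraMap A B f) →
        (∀ a ∈ I, algebraMap A B a = 0) → LocTriv π M (specAlg A B) := by
  obtain ⟨D, hD, ⟨φ⟩⟩ := Groth.Agent.H23.PicInv.exists_inverse hM
  obtain ⟨Q, hfin, e, hQ⟩ := Groth.Agent.H23.Seesaw.exists_rep (A := A) M hM
  obtain ⟨Q', hfin', e', hQ'⟩ := Groth.Agent.H23.Seesaw.exists_rep (A := A) D hD
  by_cases hF : FibreTriv M x
  · have h0 : FibreH0 Y x := Groth.Agent.H23.Rigid.bijective_appTop _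
    have hgen : ∀ (N : Y.Modules) (R : ModuleCat.{u} A) [Module.Finite A R] (eR : (R →ₗ[A] A) ≃+ Γ(N, ⊤)),
        Groth.Agent.H23.SecRep.IsRep N R eR → FibreTriv N x →
        ∃ q₀ : R, ∃ c ∉ x.asIdeal, ∀ q : R, ∃ a : A, c • q = a • q₀ := fun N R _ eR hR hN =>
      Groth.Agent.H23.SeesawMod.exists_generator x (Groth.Agent.H23.SeesawMod.fibreRank_eq_one x
        (Groth.Agent.H23.Seesaw.line_of_fibreTriv hR x h0 hN).1
        (Groth.Agent.H23.Seesaw.line_of_fibreTriv hR x h0 hN).2)
    obtain ⟨q, c, hc, hq⟩ := hgen M Q e hQ hF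
    obtain ⟨q', c', hc', hq'⟩ := hgen D Q' e' hQ' (triv_inverse φ _ hF)
    refine ⟨c * c', fun h => (Ideal.IsPrime.mem_or_mem inferInstance h).elim hc hc',
      LinearMap.ker (LinearMap.toSpanSingleton A Q q) ⊔ LinearMap.ker (LinearMap.toSpanSingleton A Q' q'),
      fun B _ _ hB hu hT a ha => ?_, fun B _ _ _ hu hI z => ?_⟩
    · rw [map_mul, IsUnit.mul_iff] at hu
      refine RingHom.mem_ker.1 ((sup_le (fun b hb => ?_) (fun b hb => ?_) :
        LinearMap.ker (LinearMap.toSpanSingleton A Q q) ⊔ LinearMap.ker (LinearMap.toSpanSingleton A Q' q') ≤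
          RingHom.ker (algebraMap A B)) ha)
      · exact algebraMap_eq_zero_of_forms_of_inj hQ hB hT (mul_form_eq_zero hq hu.1 (LinearMap.mem_ker.1 hb))
      · exact algebraMap_eq_zero_of_forms_of_inj hQ' hB (triv_inverse φ _ hT)
          (mul_form_eq_zero hq' hu.2 (LinearMap.mem_ker.1 hb))
    · rw [map_mul, IsUnit.mul_iff] at hu
      let x' : ↥(Spec (CommRingCat.of A)) := specAlg A B z
      have hsupp : ∀ (R : ModuleCat.{u} A) [Module.Finite A R] (q₀ : R),
          (∀ a : A, a • q₀ = 0 → algebraMap A B a = 0) → x' ∈ Module.support A R := fun R _ q₀ hq₀ =>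
        Module.mem_support_iff_exists_annihilator.2 ⟨q₀, fun a ha => by
          show algebraMap A B a ∈ z.asIdeal
          rw [hq₀ a ((Submodule.mem_annihilator_span_singleton q₀ a).1 ha)]
          exact z.asIdeal.zero_mem⟩
      have hq0 : ∀ a : A, a • q = 0 → algebraMap A B a = 0 := fun a ha =>
        hI a (Ideal.mem_sup_left (LinearMap.mem_ker.2 ha))
      have hq0' : ∀ a : A, a • q' = 0 → algebraMap A B a = 0 := fun a ha =>
        hI a (Ideal.mem_sup_right (LinearMap.mem_ker.2 ha))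
      have hx' : FibreTriv M x' := (Groth.Agent.H23.Seesaw.fibreTriv_iff_support hM hD φ hQ hQ' x').2
        ⟨hsupp Q q hq0, hsupp Q' q' hq0'⟩
      have hFT : FieldTriv π M x' := fieldTriv_of_point π hM x'.asIdeal.ResidueField
        (specAlg A x'.asIdeal.ResidueField) (Groth.Agent.H23.Seesaw.range_specAlg x' _) hx'
      obtain ⟨eB, he1, -⟩ := hQ B _ _ _ (IsPullback.of_hasPullback π (specAlg A B))
      obtain ⟨ψ, hψ⟩ := exists_form_of_gen hq (1 : B) fun a ha => by rw [hq0 a ha, zero_mul]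
      obtain ⟨U, hz, s, hs⟩ := exists_frame_near (A := B) (Y := chart π B (specAlg A B))
        (M := chartMod π M B (specAlg A B)) (PicClLib.isInvertible_pullback _ hM) z
        (fibreTriv_chart π B (specAlg A B) hFT) (eB ψ) fun b hb => by
          have h := LinearMap.congr_fun (eB.injective (((he1 b ψ).trans hb).trans (map_zero eB).symm)) q
          simp only [LinearMap.comp_apply, LinearMap.mulLeft_apply, LinearMap.zero_apply, hψ, mul_one] at h
          exact (hu.1.mul_left_eq_zero).1 h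
      exact ⟨U, hz, (triv_left_iff _ _).1 (triv_of_frame_preimage U hs)⟩
  · have hsupp : x ∉ Module.support A Q ∨ x ∉ Module.support A Q' := by
      rw [← not_and_or]
      exact fun h => hF ((Groth.Agent.H23.Seesaw.fibreTriv_iff_support hM hD φ hQ hQ' x).2 h)
    have key : ∃ g : A, g ∉ x.asIdeal ∧ ∀ (B : Type u) [CommRing B] [Algebra A B],
        Function.Injective (pullback.snd π (specAlg A B)).appTop → Triv ((Scheme.Modules.pullback (pullback.fst π (specAlg A B))).obj M) → algebraMap A B g = 0 := by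
      rcases hsupp with h | h <;> rw [Module.mem_support_iff_of_finite, SetLike.not_le_iff_exists] at h <;>
        obtain ⟨g, hg, hgx⟩ := h
      · refine ⟨g, hgx, fun B _ _ hB hT => algebraMap_eq_zero_of_forms_of_inj hQ hB hT fun ψ q => ?_⟩
        rw [← Algebra.smul_def, ← map_smul, Module.mem_annihilator.1 hg q, map_zero]
      · refine ⟨g, hgx, fun B _ _ hB hT => algebraMap_eq_zero_of_forms_of_inj hQ' hB (triv_inverse φ _ hT) fun ψ q => ?_⟩
        rw [← Algebra.smul_def, ← map_smul, Module.mem_annihilator.1 hg q, map_zero]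
    obtain ⟨g, hgx, hg⟩ := key
    refine ⟨g, hgx, ⊤, fun B _ _ hB hu hT a _ => ?_, fun B _ _ _ _ hI z => ?_⟩
    · rw [hg B hB hT] at hu
      haveI := isUnit_zero_iff.1 hu
      rw [← mul_one (algebraMap A B a), ← isUnit_zero_iff.1 hu, mul_zero]
    · exact absurd ((Ideal.eq_top_iff_one _).2 (by rw [← map_one (algebraMap A B), hI 1 trivial]; exact z.asIdeal.zero_mem))
        z.isPrime.ne_top

end Affine

variable (f L)

/-- The trivial locus exists near every point of the base. -/
theorem exists_rep_near_all [IsProper f] [Flat f] [GeometricallyIntegral f] [IsLocallyNoetherian S]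
    (hL : PicF.IsInvertible L)
    (h0 : ∀ (T : Scheme.{u}) (u : T ⟶ S), Function.Injective (pullback.snd f u).appTop) (y : S) :
    ∃ U : S.Opens, y ∈ U ∧ ∃ (Z : Scheme.{u}) (i : Z ⟶ (U : Scheme.{u})), IsClosedImmersion i ∧
      LocTriv f L (i ≫ U.ι) ∧
      ∀ (T : Scheme.{u}) (u : T ⟶ (U : Scheme.{u})), LocTriv f L (u ≫ U.ι) → ∃ u', u' ≫ i = u := by
  obtain ⟨A, _, _, g, _, x, rfl⟩ := exists_chart y
  obtain ⟨r, hr, I, hnec, hsuf⟩ := exists_ideal_all (M := chartMod f L A g) (PicClLib.isInvertible_pullback _ hL) x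
  let Ar := Localization.Away r
  haveI : IsNoetherianRing Ar := IsLocalization.isNoetherianRing (Submonoid.powers r) Ar inferInstance
  let J : Ideal Ar := I.map (algebraMap A Ar)
  haveI : IsOpenImmersion (specAlg A Ar) := IsOpenImmersion.of_isLocalization r
  let h := specAlg A Ar ≫ g
  let i₀ : Spec (CommRingCat.of (Ar ⧸ J)) ⟶ Spec (CommRingCat.of Ar) :=
    Spec.map (CommRingCat.ofHom (Ideal.Quotient.mk J))
  haveI : IsClosedImmersion i₀ := IsClosedImmersion.spec_of_surjective _ Ideal.Quotient.mk_surjective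
  refine ⟨h.opensRange, ?_, _, i₀ ≫ h.isoOpensRange.hom, inferInstance, ?_, fun T u hu => ?_⟩
  · obtain ⟨a, ha⟩ : (x : PrimeSpectrum A) ∈ Set.range (PrimeSpectrum.comap (algebraMap A Ar)) := by
      rw [PrimeSpectrum.localization_away_comap_range Ar r]
      exact hr
    exact ⟨a, congrArg g ha⟩
  · have he : (i₀ ≫ h.isoOpensRange.hom) ≫ h.opensRange.ι = specAlg A (Ar ⧸ J) ≫ g := by
      rw [Category.assoc, Scheme.Hom.isoOpensRange_hom_ι]
      show i₀ ≫ specAlg A Ar ≫ g = _
      rw [← Category.assoc, ← Spec.map_comp]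
      rfl
    rw [he]
    intro z
    obtain ⟨V, hz, hV⟩ := hsuf (Ar ⧸ J) (by
        rw [IsScalarTower.algebraMap_apply A Ar (Ar ⧸ J)]
        exact (IsLocalization.Away.algebraMap_isUnit r).map _)
      (fun a ha => by
        rw [IsScalarTower.algebraMap_apply A Ar (Ar ⧸ J)]
        exact Ideal.Quotient.eq_zero_iff_mem.2 (Ideal.mem_map_of_mem _ ha)) z
    exact ⟨V, hz, triv_pullback_of_factor (𝟙 _) (by rw [Category.id_comp]; exact Category.assoc _ _ _)
      ((triv_left_iff g (V.ι ≫ specAlg A (Ar ⧸ J))).1 hV)⟩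
  · let v : T ⟶ Spec (CommRingCat.of Ar) := u ≫ h.isoOpensRange.inv
    have hv : v ≫ h = u ≫ h.opensRange.ι := by
      rw [Category.assoc, Scheme.Hom.isoOpensRange_inv_comp]
    have hloc : ∀ t : T, ∃ W : T.Opens, t ∈ W ∧ ∃ w : (W : Scheme.{u}) ⟶ Spec (CommRingCat.of (Ar ⧸ J)),
        w ≫ i₀ = W.ι ≫ v := by
      intro t
      obtain ⟨V, htV, hV⟩ := hu t
      obtain ⟨W, hW, htW, hWV⟩ := exists_isAffineOpen_mem_and_subset (X := T) (U := V) htV
      refine ⟨W, htW, ?_⟩
      haveI : IsAffine (W : Scheme.{u}) := hW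
      let B : Type u := Γ(T, W)
      let j : Spec (CommRingCat.of B) ⟶ (W : Scheme.{u}) := (IsAffineOpen.isoSpec hW).inv
      obtain ⟨α, hα⟩ := Spec.map_surjective (j ≫ W.ι ≫ v)
      letI : Algebra Ar B := α.hom.toAlgebra
      letI : Algebra A B := (α.hom.comp (algebraMap A Ar)).toAlgebra
      have hspec : specAlg A B ≫ g = j ≫ W.ι ≫ u ≫ h.opensRange.ι := by
        rw [← hv, ← Category.assoc W.ι, ← Category.assoc j, ← hα]
        show Spec.map (CommRingCat.ofHom (algebraMap A Ar) ≫ α) ≫ g = _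
        rw [Spec.map_comp, Category.assoc]
      have hT : Triv ((Scheme.Modules.pullback (pullback.fst f (specAlg A B ≫ g))).obj L) :=
        triv_pullback_of_factor (j ≫ T.homOfLE hWV) (by
          rw [hspec, Category.assoc, Scheme.homOfLE_ι_assoc]) hV
      have hzero := hnec B (inj_chart f A g (h0 _ _)) ((IsLocalization.Away.algebraMap_isUnit (S := Ar) r).map α.hom) (triv_chart f A g hT)
      have hJ : ∀ a ∈ J, α.hom a = 0 := fun a ha =>
        RingHom.mem_ker.1 (((Ideal.map_le_iff_le_comap.2 hzero) : J ≤ RingHom.ker α.hom) ha)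
      refine ⟨(IsAffineOpen.isoSpec hW).hom ≫ Spec.map (CommRingCat.ofHom (Ideal.Quotient.lift J α.hom hJ)), ?_⟩
      rw [Category.assoc, ← Spec.map_comp]
      have : CommRingCat.ofHom (Ideal.Quotient.mk J) ≫ CommRingCat.ofHom (Ideal.Quotient.lift J α.hom hJ) = α := rfl
      rw [this, hα]
      exact Iso.hom_inv_id_assoc _ _
    choose W htW w hw using hloc
    let 𝒰 := T.openCoverOfIsOpenCover W (TopologicalSpace.IsOpenCover.mk (eq_top_iff.2 fun t _ =>
      Opens.mem_iSup.2 ⟨t, htW t⟩))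
    refine ⟨𝒰.glueMorphisms w fun a b => ?_, ?_⟩
    · show pullback.fst (W a).ι (W b).ι ≫ w a = pullback.snd (W a).ι (W b).ι ≫ w b
      rw [← cancel_mono i₀, Category.assoc, Category.assoc, hw, hw, pullback.condition_assoc]
    · rw [← cancel_mono h.isoOpensRange.inv]
      refine 𝒰.hom_ext _ _ fun t => ?_
      rw [← Category.assoc, ← Category.assoc, Scheme.Cover.ι_glueMorphisms]
      simp only [Category.assoc, Iso.hom_inv_id, Category.comp_id]
      exact hw t

/-- The seesaw subscheme, for all test schemes. -/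
theorem exists_seesaw_all [IsProper f] [Flat f] [GeometricallyIntegral f] [IsLocallyNoetherian S]
    (hL : PicF.IsInvertible L)
    (h0 : ∀ (T : Scheme.{u}) (u : T ⟶ S), Function.Injective (pullback.snd f u).appTop) :
    ∃ (Z : Scheme.{u}) (ι : Z ⟶ S), IsClosedImmersion ι ∧
      ∀ (T : Scheme.{u}) (u : T ⟶ S), (∃ u', u' ≫ ι = u) ↔ LocTriv f L u := by
  have hnear := exists_rep_near_all f L hL h0
  obtain ⟨Z, ι, hι, h⟩ := exists_glued (Pr := fun {T} (u : T ⟶ S) => LocTriv f L u)
    (fun y => by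
      obtain ⟨U, hy, Z, i, hi, h1, h2⟩ := hnear y
      exact ⟨U, hy, Z, i, hi, h1, fun T _ u hu => h2 T u hu⟩)
    (locTriv_pull f L) (locTriv_of_local f L)
  haveI : IsLocallyNoetherian Z := LocallyOfFiniteType.isLocallyNoetherian ι
  refine ⟨Z, ι, hι, fun T u => ⟨?_, fun hu => ?_⟩⟩
  · rintro ⟨u', rfl⟩
    exact locTriv_pull f L u' ι ((h Z ι inferInstance).1 ⟨𝟙 Z, Category.id_comp ι⟩)
  · choose U hU Zl i hi hloc hlift using hnear
    have hlocal : ∀ t : T, ∃ u' : (↑(u ⁻¹ᵁ U (u t)) : Scheme.{u}) ⟶ Z, u' ≫ ι = (u ⁻¹ᵁ U (u t)).ι ≫ u := by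
      intro t
      obtain ⟨w, hw⟩ := hlift (u t) _ (u ∣_ U (u t)) (by
        rw [morphismRestrict_ι]; exact locTriv_pull f L _ _ hu)
      haveI := hi (u t)
      obtain ⟨v, hv⟩ := (h (Zl (u t)) (i (u t) ≫ (U (u t)).ι)
        (LocallyOfFiniteType.isLocallyNoetherian (i (u t) ≫ (U (u t)).ι))).2 (hloc (u t))
      exact ⟨w ≫ v, by rw [Category.assoc, hv, reassoc_of% hw, morphismRestrict_ι]⟩
    choose u' hu' using hlocal
    let 𝒰 := T.openCoverOfIsOpenCover (fun t => u ⁻¹ᵁ U (u t))
      (TopologicalSpace.IsOpenCover.mk (eq_top_iff.2 fun t _ => Opens.mem_iSup.2 ⟨t, hU (u t)⟩))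
    refine ⟨𝒰.glueMorphisms u' fun a b => ?_, 𝒰.hom_ext _ _ fun t => ?_⟩
    · show pullback.fst (u ⁻¹ᵁ U (u a)).ι (u ⁻¹ᵁ U (u b)).ι ≫ u' a =
        pullback.snd (u ⁻¹ᵁ U (u a)).ι (u ⁻¹ᵁ U (u b)).ι ≫ u' b
      rw [← cancel_mono ι, Category.assoc, Category.assoc, hu', hu', pullback.condition_assoc]
    · rw [← Category.assoc, Scheme.Cover.ι_glueMorphisms]
      exact hu' t

end Groth.Agent.ThetaH3.SeesawAll
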