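import Groth.Agent.ThetaH3.Basic

/-!
# Transfer of points of theta groups along a homomorphism
-/

universe u

open CategoryTheory CategoryTheory.Limits MonoidalCategory CartesianMonoidalCategory MonObj AlgebraicGeometry
open Pseudofunctor Bicategory

noncomputable section

namespace Groth.Agent.ThetaH3

open ThetaGrp (thetaObj thetaPts transl IsOverPt bcLift IsBaseChange)

section Fib

universe w v₂ u₂

variable {𝒮 : Type w} [Category.{u} 𝒮] {F : LocallyDiscrete 𝒮ᵒᵖ ⥤ᵖ Cat.{v₂, u₂}}
variable {P Q R : CoGrothendieck F}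

theorem isIso_fiber_comp (χ : R ⟶ P) (f : P ⟶ Q) [IsIso χ.fiber] [IsIso f.fiber] : IsIso (χ ≫ f).fiber :=
  @IsIso.comp_isIso _ _ _ _ _ _ _ inferInstance (@IsIso.comp_isIso _ _ _ _ _ _ _ inferInstance
    (inferInstanceAs (IsIso ((Cat.Hom.toNatIso (F.mapComp f.base.op.toLoc χ.base.op.toLoc)).inv.app Q.fiber))))

theorem isIso_fiber_of_comp (χ : R ⟶ P) (f : P ⟶ Q) [IsIso f.fiber] (h : IsIso (χ ≫ f).fiber) :
    IsIso χ.fiber := by
  let rest : (F.map χ.base.op.toLoc).toFunctor.obj P.fiber ⟶
      (F.map (χ.base ≫ f.base).op.toLoc).toFunctor.obj Q.fiber :=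
    (F.map χ.base.op.toLoc).toFunctor.map f.fiber ≫
      (Cat.Hom.toNatIso (F.mapComp f.base.op.toLoc χ.base.op.toLoc)).inv.app Q.fiber
  haveI : IsIso rest := @IsIso.comp_isIso _ _ _ _ _ _ _ inferInstance
    (inferInstanceAs (IsIso ((Cat.Hom.toNatIso (F.mapComp f.base.op.toLoc χ.base.op.toLoc)).inv.app Q.fiber)))
  haveI : IsIso (χ.fiber ≫ rest) := h
  exact IsIso.of_isIso_comp_right χ.fiber rest

end Fib

variable {S : Scheme.{u}} {A B : Over S} {L : A.left.Modules} {M : B.left.Modules}

/-- A morphism `(A, L) ⟶ (B, M)` over `f` with invertible module part. -/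
structure Datum (f : A ⟶ B) (L : A.left.Modules) (M : B.left.Modules) where
  /-- the morphism of pairs -/
  map : (⟨A.left, L⟩ : MP.{u}) ⟶ ⟨B.left, M⟩
  base : map.base = f.left
  fiber : IsIso map.fiber

/-- The datum given by an isomorphism `f^*M ≅ L`. -/
def Datum.ofIso (f : A ⟶ B) (e : (Scheme.Modules.pullback f.left).obj M ≅ L) : Datum f L M :=
  ⟨CoGrothendieck.Hom.mk f.left e.inv, rfl, inferInstanceAs (IsIso e.inv)⟩

variable {f : A ⟶ B} (D : Datum f L M)

theorem existsUnique_phi (T : Over S) :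
    ∃! χ : thetaObj A L T ⟶ thetaObj B M T,
      χ.base = (f ▷ T).left ∧ χ ≫ proj B M T = proj A L T ≫ D.map := by
  refine existsUnique_lift (proj B M T) _ _ ?_
  rw [CoGrothendieck.categoryStruct_comp_base, D.base]
  show (f ▷ T).left ≫ (fst B T).left = (fst A T).left ≫ f.left
  rw [← Over.comp_left, ← Over.comp_left, whiskerRight_fst]

/-- The morphism `(A × T, L_T) ⟶ (B × T, M_T)`. -/
def phi (T : Over S) : thetaObj A L T ⟶ thetaObj B M T := (existsUnique_phi D T).choose

theorem phi_base (T : Over S) : (phi D T).base = (f ▷ T).left := (existsUnique_phi D T).choose_spec.1.1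

theorem phi_proj (T : Over S) : phi D T ≫ proj B M T = proj A L T ≫ D.map :=
  (existsUnique_phi D T).choose_spec.1.2

instance isIso_phi_fiber (T : Over S) : IsIso (phi D T).fiber := by
  refine isIso_fiber_of_comp _ (proj B M T) ?_
  rw [phi_proj]
  haveI := D.fiber
  exact isIso_fiber_comp _ _

variable [GrpObj A] [GrpObj B]

theorem bcLift_phi {T G : Over S} (g : T ⟶ G) :
    bcLift A L g ≫ phi D G = phi D T ≫ bcLift B M g := by
  refine hom_ext_lift (proj B M G) ?_ ?_
  · rw [CoGrothendieck.categoryStruct_comp_base, CoGrothendieck.categoryStruct_comp_base, phi_base, phi_base,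
      bcLift_base, bcLift_base, ← Over.comp_left, ← Over.comp_left, MonoidalCategory.whisker_exchange]
  · rw [Category.assoc, Category.assoc, phi_proj, bcLift_proj, phi_proj, ← Category.assoc, bcLift_proj]

/-- The point `β` of `G(M)` is the image of the point `α` of `G(L)`. -/
def Rel {T : Over S} (α : thetaPts A L T) (β : thetaPts B M T) : Prop :=
  α.1.hom ≫ phi D T = phi D T ≫ β.1.hom

theorem rel_one (T : Over S) : Rel D (1 : thetaPts A L T) (1 : thetaPts B M T) := by
  show 𝟙 _ ≫ _ = _ ≫ 𝟙 _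
  rw [Category.comp_id, Category.id_comp]

theorem rel_mul {T : Over S} {α α' : thetaPts A L T} {β β' : thetaPts B M T} (h : Rel D α β) (h' : Rel D α' β') :
    Rel D (α * α') (β * β') := by
  show (α'.1.hom ≫ α.1.hom) ≫ _ = _ ≫ β'.1.hom ≫ β.1.hom
  rw [Category.assoc, h, ← Category.assoc, h', Category.assoc]

theorem rel_unitPt (T : Over S) (c : Γ(T.left, ⊤)ˣ) :
    Rel D (unitPt (A := A) (L := L) T c) (unitPt (A := B) (L := M) T c) := by
  show scal _ _ ≫ phi D T = phi D T ≫ scal _ _
  refine Eq.symm ((comp_scal _ _).trans ?_)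
  rw [phi_base, ← CommRingCat.comp_apply, ← Scheme.Hom.comp_appTop, ← Over.comp_left, whiskerRight_snd]

variable [IsMonHom f]

theorem transl_whiskerRight {T : Over S} (x : T ⟶ A) :
    transl A x ≫ f ▷ T = f ▷ T ≫ transl B (x ≫ f) := by
  apply CartesianMonoidalCategory.hom_ext
  · simp [transl, MonObj.comp_mul, MonObj.mul_comp]
  · simp [transl]

theorem rel_isOverPt {T : Over S} {α : thetaPts A L T} {β : thetaPts B M T} {x : T ⟶ A} (h : Rel D α β)
    (hx : IsOverPt α x) : IsOverPt β (x ≫ f) := by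
  obtain ⟨y, hy⟩ := exists_isOverPt β
  suffices e : y = x ≫ f by rwa [e] at hy
  have h' := congrArg CoGrothendieck.Hom.base h
  simp only [CoGrothendieck.categoryStruct_comp_base] at h'
  rw [show α.1.hom.base = _ from hx, show β.1.hom.base = _ from hy, phi_base, ← Over.comp_left, ← Over.comp_left,
    transl_whiskerRight] at h'
  have h'' := congrArg (fun g => lift (1 : T ⟶ A) (𝟙 T) ≫ g ≫ fst B T) (Over.OverMorphism.ext h')
  simp only [Category.assoc, ThetaGrp.transl_fst, MonObj.comp_mul, whiskerRight_fst, lift_fst_assoc,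
    whiskerRight_snd_assoc, lift_snd_assoc, Category.id_comp, MonObj.one_comp, _root_.one_mul] at h''
  exact h''.symm

theorem existsUnique_rel {T : Over S} (x : T ⟶ A) (β : thetaPts B M T) (hβ : IsOverPt β (x ≫ f)) :
    ∃! α : thetaPts A L T, IsOverPt α x ∧ Rel D α β := by
  have hbase : (transl A x).left ≫ (phi D T).base = (phi D T ≫ β.1.hom).base := by
    rw [CoGrothendieck.categoryStruct_comp_base, show β.1.hom.base = _ from hβ, phi_base, ← Over.comp_left,
      ← Over.comp_left, transl_whiskerRight]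
  obtain ⟨χ, ⟨hχb, hχ⟩, -⟩ := existsUnique_lift (phi D T) (phi D T ≫ β.1.hom) _ hbase
  haveI : IsIso χ.fiber := by
    refine isIso_fiber_of_comp χ (phi D T) ?_
    rw [hχ]
    haveI := isIso_fiber β.1.hom
    exact isIso_fiber_comp _ _
  haveI : IsIso χ.base := hχb ▸ isIso_transl x
  haveI := isIso_of_isIso χ
  refine ⟨⟨asIso χ, x, hχb⟩, ⟨hχb, hχ⟩, fun α ⟨hα, h⟩ => ext_hom ?_⟩
  exact hom_ext_lift (phi D T) (hα.trans hχb.symm) (h.trans hχ.symm)

theorem rel_unique {T : Over S} {α α' : thetaPts A L T} {β : thetaPts B M T} {x : T ⟶ A} (hα : IsOverPt α x)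
    (h : Rel D α β) (hα' : IsOverPt α' x) (h' : Rel D α' β) : α = α' :=
  (existsUnique_rel D x β (rel_isOverPt D h hα)).unique ⟨hα, h⟩ ⟨hα', h'⟩

theorem rel_bc {T G : Over S} (g : T ⟶ G) {α : thetaPts A L G} {β : thetaPts B M G} (h : Rel D α β) :
    Rel D (bc g α) (bc g β) := by
  obtain ⟨x, hx⟩ := exists_isOverPt α
  have hb : IsOverPt (bc g β) ((g ≫ x) ≫ f) := by
    rw [Category.assoc]
    exact isOverPt_bc g (rel_isOverPt D h hx)
  refine hom_ext_lift (bcLift B M g) ?_ ?_
  · rw [CoGrothendieck.categoryStruct_comp_base, CoGrothendieck.categoryStruct_comp_base,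
      show (bc g α).1.hom.base = _ from isOverPt_bc g hx, show (bc g β).1.hom.base = _ from hb, phi_base,
      ← Over.comp_left, ← Over.comp_left, transl_whiskerRight]
  · rw [Category.assoc, Category.assoc, isBaseChange_bc g β, ← bcLift_phi, ← Category.assoc,
      isBaseChange_bc g α, Category.assoc, h, ← Category.assoc, bcLift_phi, Category.assoc]

/-- Related pairs of points commute simultaneously. -/
theorem commute_iff_of_rel [IsCommMonObj A] [IsCommMonObj B] (hL : PicF.IsInvertible L) (hM : PicF.IsInvertible M)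
    {T : Over S} (hA : H0 A T) (hB : H0 B T) {α α' : thetaPts A L T} {β β' : thetaPts B M T}
    (h : Rel D α β) (h' : Rel D α' β') : α * α' = α' * α ↔ β * β' = β' * β := by
  obtain ⟨c, hc⟩ := exists_commutator hM hB β β'
  obtain ⟨x, hx⟩ := exists_isOverPt α
  obtain ⟨x', hx'⟩ := exists_isOverPt α'
  have e1 := rel_mul D (rel_unitPt D T c) (rel_mul D h' h)
  rw [← hc] at e1
  have o1 : IsOverPt (unitPt T c * (α' * α)) (x' * x) := by
    have := isOverPt_mul (isOverPt_unitPt (A := A) (L := L) T c) (isOverPt_mul hx' hx)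
    rwa [_root_.mul_one, mul_comm x x'] at this
  have e := rel_unique D (isOverPt_mul hx hx') (rel_mul D h h') o1 e1
  rw [e, hc, mul_eq_right, mul_eq_right]
  exact ⟨fun he => by rw [unitPt_injective hL hA (he.trans (unitPt_one T).symm), unitPt_one],
    fun he => by rw [unitPt_injective hM hB (he.trans (unitPt_one T).symm), unitPt_one]⟩

omit [GrpObj B] [IsMonHom f] in
/-- Commutation only depends on the translations. -/
theorem commute_of_isOverPt (hL : PicF.IsInvertible L) {T : Over S} (hA : H0 A T) {α α' ζ ζ' : thetaPts A L T}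
    {x x' : T ⟶ A} (hα : IsOverPt α x) (hα' : IsOverPt α' x') (hζ : IsOverPt ζ x) (hζ' : IsOverPt ζ' x')
    (h : ζ * ζ' = ζ' * ζ) : α * α' = α' * α := by
  obtain ⟨c, rfl⟩ := exists_unit_of_isOverPt hL hA hζ hα
  obtain ⟨d, rfl⟩ := exists_unit_of_isOverPt hL hA hζ' hα'
  refine Commute.mul_left (Commute.mul_right (unitPt_comm T c _) (unitPt_comm T c _))
    (Commute.mul_right ?_ h)
  exact (unitPt_comm T d ζ).symm

end Groth.Agent.ThetaH3
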